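import Groth.Prelude.Def_W4c4cptpiccptjacBI
import Mathlib.Tactic

/-!
# The Basic Inequality
-/

universe u

open Finset LabGraph

namespace Groth.Agent.LabGraph6BI

variable {V E : Type u} [Fintype V] [Fintype E] [DecidableEq V] [DecidableEq E]
variable {ends : E → V × V} {w : V → ℕ}

/-- `K d_Y - D c_Y`. -/
def excess (ends : E → V × V) (w : V → ℕ) (d : V → ℤ) (Y : Finset V) : ℤ :=
  canDeg ends w Finset.univ * (∑ v ∈ Y, d v) - (∑ v : V, d v) * canDeg ends w Y

/-- Indicator of an edge crossing `Y`. -/
def crossInd (ends : E → V × V) (Y : Finset V) (e : E) : ℤ :=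
  if ((ends e).1 ∈ Y ∧ (ends e).2 ∉ Y) ∨ ((ends e).1 ∉ Y ∧ (ends e).2 ∈ Y) then 1 else 0

theorem cut_eq_sum (Y : Finset V) : (cut ends Y : ℤ) = ∑ e, crossInd ends Y e := by
  rw [cut, Finset.card_filter]; push_cast; rfl

theorem crossInd_nonneg (Y : Finset V) (e : E) : 0 ≤ crossInd ends Y e := by
  unfold crossInd; split_ifs <;> simp

theorem cut_compl (Y : Finset V) : cut ends Yᶜ = cut ends Y := by
  unfold cut
  refine congrArg Finset.card (Finset.filter_congr fun e _ => ?_)
  simp only [Finset.mem_compl]; tauto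

theorem excess_compl (d : V → ℤ) (Y : Finset V) : excess ends w d Yᶜ = -excess ends w d Y := by
  unfold excess canDeg
  rw [← Finset.sum_add_sum_compl Y (fun v => 2 * (w v : ℤ) - 2 + (endCount ends univ v : ℤ)),
    ← Finset.sum_add_sum_compl Y d]
  ring

theorem excess_union_inter (d : V → ℤ) (A B : Finset V) :
    excess ends w d (A ∪ B) + excess ends w d (A ∩ B) = excess ends w d A + excess ends w d B := by
  unfold excess
  have h1 := Finset.sum_union_inter (s₁ := A) (s₂ := B) (f := d)
  have h2 : canDeg ends w (A ∪ B) + canDeg ends w (A ∩ B) = canDeg ends w A + canDeg ends w B :=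
    Finset.sum_union_inter
  linear_combination canDeg ends w univ * h1 - (∑ v : V, d v) * h2

theorem bi_iff (d : V → ℤ) :
    SatisfiesBI ends w d ↔ ∀ Y, 2 * excess ends w d Y ≤ (cut ends Y : ℤ) * canDeg ends w univ := by
  constructor
  · intro h Y
    refine le_trans ?_ (h Y)
    exact mul_le_mul_of_nonneg_left (le_abs_self _) (by norm_num)
  · intro h Y
    have h1 := h Y
    have h2 := h Yᶜ
    rw [excess_compl, cut_compl] at h2
    rcases abs_choice (excess ends w d Y) with h3 | h3 <;>
      · unfold excess at h1 h2 h3; rw [h3]; linarith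

theorem sum_twist_subset (φ : V → ℤ) (Y : Finset V) :
    ∑ v ∈ Y, twist ends φ v = ∑ e, (φ (ends e).2 - φ (ends e).1) *
      ((if (ends e).1 ∈ Y then 1 else 0) - (if (ends e).2 ∈ Y then 1 else 0)) := by
  unfold twist
  rw [Finset.sum_comm]
  refine Finset.sum_congr rfl fun e _ => ?_
  rw [Finset.sum_add_distrib, Finset.sum_ite_eq, Finset.sum_ite_eq]
  split_ifs <;> ring

theorem sum_twist (φ : V → ℤ) : ∑ v, twist ends φ v = 0 := by
  rw [sum_twist_subset]; simp

theorem twist_add_ind (φ : V → ℤ) (Z : Finset V) (v : V) :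
    twist ends (fun u => φ u + if u ∈ Z then 1 else 0) v =
      twist ends φ v + twist ends (fun u => if u ∈ Z then 1 else 0) v := by
  unfold twist
  rw [← Finset.sum_add_distrib]
  exact Finset.sum_congr rfl fun e _ => by by_cases h1 : (ends e).1 = v <;>
    by_cases h2 : (ends e).2 = v <;> simp [h1, h2] <;> ring

theorem excess_add_twist (d φ : V → ℤ) (Y : Finset V) :
    excess ends w (fun v => d v + twist ends φ v) Y =
      excess ends w d Y + canDeg ends w univ * ∑ v ∈ Y, twist ends φ v := by
  unfold excess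
  rw [Finset.sum_add_distrib, Finset.sum_add_distrib, sum_twist]
  ring

theorem canDeg_univ : canDeg ends w univ = 2 * genus ends w - 2 := by
  have h : ∑ v, (endCount ends univ v : ℤ) = 2 * (Fintype.card E : ℤ) := by
    unfold endCount
    push_cast
    rw [Finset.sum_comm]
    simp [Finset.sum_add_distrib, Finset.card_univ]
    ring
  rw [canDeg, genus, Finset.sum_add_distrib, Finset.sum_sub_distrib, h, ← Finset.mul_sum]
  simp [Finset.card_univ]
  ring

theorem bi_add_twist_extreme (d : V → ℤ) (hK : 0 ≤ canDeg ends w univ) (hBI : SatisfiesBI ends w d)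
    (Z : Finset V) (hZ : 2 * excess ends w d Z = (cut ends Z : ℤ) * canDeg ends w univ) :
    SatisfiesBI ends w (fun v => d v + twist ends (fun u => if u ∈ Z then 1 else 0) v) := by
  rw [bi_iff] at hBI ⊢
  intro Y
  rw [excess_add_twist]
  have hu := hBI (Y ∪ Z)
  have hi := hBI (Y ∩ Z)
  have hmod := excess_union_inter (ends := ends) (w := w) d Y Z
  have key : (cut ends (Y ∪ Z) : ℤ) + cut ends (Y ∩ Z) - cut ends Z +
      2 * ∑ v ∈ Y, twist ends (fun u => if u ∈ Z then (1 : ℤ) else 0) v ≤ cut ends Y := by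
    rw [cut_eq_sum, cut_eq_sum, cut_eq_sum, cut_eq_sum, sum_twist_subset, Finset.mul_sum,
      ← Finset.sum_add_distrib, ← Finset.sum_sub_distrib, ← Finset.sum_add_distrib]
    refine Finset.sum_le_sum fun e _ => ?_
    simp only [crossInd, Finset.mem_union, Finset.mem_inter]
    by_cases h1 : (ends e).1 ∈ Y <;> by_cases h2 : (ends e).2 ∈ Y <;>
      by_cases h3 : (ends e).1 ∈ Z <;> by_cases h4 : (ends e).2 ∈ Z <;> simp [h1, h2, h3, h4]
  have := mul_le_mul_of_nonneg_left key hK
  linarith

theorem exists_bi (hconn : Connected ends) (hK : 0 < canDeg ends w univ) (d : V → ℤ) :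
    ∃ d' : V → ℤ, TwistEquiv ends d' d ∧ SatisfiesBI ends w d' := by
  classical
  obtain ⟨v₀⟩ := hconn.1
  set K := canDeg ends w univ with hKdef
  set q : V → ℤ := fun v => K * d v - (∑ u, d u) * (2 * (w v : ℤ) - 2 + (endCount ends univ v : ℤ))
  have hq : ∀ Y, ∑ v ∈ Y, q v = excess ends w d Y := by
    intro Y
    simp only [q, excess, canDeg, Finset.sum_sub_distrib, ← Finset.mul_sum]
    rfl
  let G : (V → ℤ) → ℤ := fun φ =>
    (∑ e, K * (φ (ends e).2 - φ (ends e).1) ^ 2) - 2 * ∑ v, φ v * q v
  -- a lower bound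
  set C : ℤ := ∑ v, |q v| with hC
  have hC0 : 0 ≤ C := Finset.sum_nonneg fun v _ => abs_nonneg _
  have hdiff : ∀ (φ : V → ℤ) v, |φ v - φ v₀| ≤ ∑ e, |φ (ends e).2 - φ (ends e).1| := by
    intro φ v
    -- prove it through the set of vertices reached by a simple argument on subsets of edges
    have key : ∀ (n : ℕ) (R : Finset V) (S : Finset E), S.card = n → v₀ ∈ R →
        (∀ u ∈ R, |φ u - φ v₀| ≤ ∑ e ∈ Sᶜ, |φ (ends e).2 - φ (ends e).1|) →
        (∀ e ∈ Sᶜ, (ends e).1 ∈ R ∧ (ends e).2 ∈ R) →
        ∀ u, |φ u - φ v₀| ≤ ∑ e, |φ (ends e).2 - φ (ends e).1| := by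
      intro n
      induction n using Nat.strong_induction_on with
      | _ n ih =>
      intro R S hS hv₀ hR hclosed u
      have hmono : ∑ e ∈ Sᶜ, |φ (ends e).2 - φ (ends e).1| ≤ ∑ e, |φ (ends e).2 - φ (ends e).1| :=
        Finset.sum_le_sum_of_subset_of_nonneg (Finset.subset_univ _) fun e _ _ => abs_nonneg _
      by_cases hex : ∃ e ∈ S, ((ends e).1 ∈ R ∨ (ends e).2 ∈ R)
      · obtain ⟨e, he, hor⟩ := hex
        refine ih (n - 1) (by have := Finset.card_pos.mpr ⟨e, he⟩; omega)
          (insert (ends e).1 (insert (ends e).2 R)) (S.erase e)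
          (by rw [Finset.card_erase_of_mem he, hS]) (by simp [hv₀]) ?_ ?_ u
        · intro x hx
          rw [show (S.erase e)ᶜ = insert e Sᶜ from Finset.compl_erase, Finset.sum_insert (by simp [he])]
          have ha := abs_nonneg (φ (ends e).2 - φ (ends e).1)
          simp only [Finset.mem_insert] at hx
          rcases hx with rfl | rfl | hx
          · rcases hor with h | h
            · linarith [hR _ h]
            · have := abs_sub_le (φ (ends e).1) (φ (ends e).2) (φ v₀)
              rw [abs_sub_comm (φ (ends e).1) (φ (ends e).2)] at this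
              linarith [hR _ h]
          · rcases hor with h | h
            · have := abs_sub_le (φ (ends e).2) (φ (ends e).1) (φ v₀)
              linarith [hR _ h]
            · linarith [hR _ h]
          · linarith [hR _ hx]
        · intro x hx
          rw [Finset.compl_erase, Finset.mem_insert] at hx
          rcases hx with rfl | hx
          · simp
          · have := hclosed x hx
            simp [this]
      · push Not at hex
        have hall : ∀ x, x ∈ R := by
          intro x
          induction hconn.2 v₀ x with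
          | refl => exact hv₀
          | @tail y z _ hyz ihy =>
            obtain ⟨e, he⟩ := hyz
            by_cases heS : e ∈ S
            · have := hex e heS
              rcases he with he | he <;> rw [he] at this
              · exact absurd ihy this.1
              · exact absurd ihy this.2
            · have := hclosed e (Finset.mem_compl.mpr heS)
              rcases he with he | he <;> rw [he] at this
              · exact this.2
              · exact this.1
        exact (hR u (hall u)).trans hmono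
    exact key _ {v₀} univ rfl (Finset.mem_singleton_self _) (fun u hu => by
      rw [Finset.mem_singleton.mp hu]; simp) (by simp) v
  have hbound : ∀ φ, -(∑ _e : E, C ^ 2) ≤ G φ := by
    intro φ
    have hsum : ∑ v, φ v * q v ≤ C * ∑ e, |φ (ends e).2 - φ (ends e).1| := by
      have h0 : ∑ v, q v = 0 := by rw [hq]; unfold excess; ring
      calc ∑ v, φ v * q v = ∑ v, (φ v - φ v₀) * q v := by
            simp only [sub_mul, Finset.sum_sub_distrib, ← Finset.mul_sum, h0]; ring
        _ ≤ ∑ v, |q v| * ∑ e, |φ (ends e).2 - φ (ends e).1| := Finset.sum_le_sum fun v _ => by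
            refine (le_abs_self _).trans ?_
            rw [abs_mul, mul_comm]
            exact mul_le_mul_of_nonneg_left (hdiff φ v) (abs_nonneg _)
        _ = _ := by rw [hC, Finset.sum_mul]
    have hedge : ∀ e, -C ^ 2 ≤ K * (φ (ends e).2 - φ (ends e).1) ^ 2 -
        2 * (C * |φ (ends e).2 - φ (ends e).1|) := by
      intro e
      have h1 := sq_nonneg (|φ (ends e).2 - φ (ends e).1| - C)
      have h2 := sq_abs (φ (ends e).2 - φ (ends e).1)
      have h3 : (φ (ends e).2 - φ (ends e).1) ^ 2 ≤ K * (φ (ends e).2 - φ (ends e).1) ^ 2 :=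
        le_mul_of_one_le_left (sq_nonneg _) hK
      nlinarith
    have := Finset.sum_le_sum (s := univ) fun e _ => hedge e
    simp only [Finset.sum_sub_distrib, ← Finset.mul_sum, Finset.sum_neg_distrib] at this
    simp only [G, ← Finset.mul_sum] at this ⊢
    linarith
  obtain ⟨m, ⟨φ, rfl⟩, hmin⟩ := Int.exists_least_of_bdd (P := fun z => ∃ φ, G φ = z)
    ⟨-(∑ _e : E, C ^ 2), fun z ⟨φ, h⟩ => h ▸ hbound φ⟩ ⟨G 0, 0, rfl⟩
  refine ⟨fun v => d v + twist ends φ v, ⟨φ, fun v => by ring⟩, (bi_iff _).mpr fun Z => ?_⟩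
  have h := hmin _ ⟨fun v => φ v + if v ∈ Z then 1 else 0, rfl⟩
  have hG : G (fun v => φ v + if v ∈ Z then 1 else 0) =
      G φ + (K * cut ends Z - 2 * excess ends w (fun v => d v + twist ends φ v) Z) := by
    rw [excess_add_twist, ← hq, cut_eq_sum, sum_twist_subset, ← hKdef]
    have hlin : ∑ v, (φ v + if v ∈ Z then 1 else 0) * q v = ∑ v, φ v * q v + ∑ v ∈ Z, q v := by
      simp only [add_mul, ite_mul, one_mul, zero_mul, Finset.sum_add_distrib, Finset.sum_ite_mem,
        Finset.univ_inter]
    simp only [G]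
    rw [hlin]
    have : ∀ e, K * (φ (ends e).2 + (if (ends e).2 ∈ Z then 1 else 0) -
        (φ (ends e).1 + if (ends e).1 ∈ Z then 1 else 0)) ^ 2 =
        K * (φ (ends e).2 - φ (ends e).1) ^ 2 + K * crossInd ends Z e -
          2 * (K * ((φ (ends e).2 - φ (ends e).1) *
            ((if (ends e).1 ∈ Z then 1 else 0) - (if (ends e).2 ∈ Z then 1 else 0)))) := by
      intro e
      by_cases h1 : (ends e).1 ∈ Z <;> by_cases h2 : (ends e).2 ∈ Z <;> simp [crossInd, h1, h2] <;> ring
    simp only [this, Finset.sum_add_distrib, Finset.sum_sub_distrib, ← Finset.mul_sum]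
    ring
  rw [hG] at h
  linarith

theorem exists_levels (hconn : Connected ends) (hK : 0 < canDeg ends w univ) (d d' : V → ℤ)
    (hBI : SatisfiesBI ends w d) (hBI' : SatisfiesBI ends w d') (heq : TwistEquiv ends d d') :
    ∃ (q : ℕ) (h : V → ℕ), (∀ v : V, h v ≤ q) ∧ (∀ i : ℕ, i ≤ q → ∃ v : V, h v = i) ∧
      (∀ v : V, d v - d' v = twist ends (fun u => (h u : ℤ)) v) ∧
      (∀ i j : ℕ, i ≤ q → j ≤ q → i ≠ j →
        ((∃ e : E, (h (ends e).1 = i ∧ h (ends e).2 = j) ∨ (h (ends e).1 = j ∧ h (ends e).2 = i)) ↔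
          (i + 1 = j ∨ j + 1 = i))) := by
  obtain ⟨φ, hφ⟩ := heq
  haveI := hconn.1
  obtain ⟨v₀, -, hv₀⟩ := Finset.exists_min_image (univ : Finset V) φ univ_nonempty
  let h : V → ℕ := fun v => (φ v - φ v₀).toNat
  have hh : ∀ v, (h v : ℤ) = φ v - φ v₀ := fun v =>
    Int.toNat_of_nonneg (sub_nonneg.mpr (hv₀ v (Finset.mem_univ v)))
  have htw : ∀ v, d v - d' v = twist ends (fun u => (h u : ℤ)) v := by
    intro v
    rw [hφ v]
    unfold twist
    simp only [hh, sub_sub_sub_cancel_right]
  have hd : d = fun v => d' v + twist ends (fun u => (h u : ℤ)) v := funext fun v => by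
    have := htw v; linarith
  have hstep : ∀ e, (h (ends e).1 : ℤ) ≤ h (ends e).2 + 1 ∧ (h (ends e).2 : ℤ) ≤ h (ends e).1 + 1 := by
    have key : ∀ j : ℕ, ∀ e, crossInd ends (univ.filter fun v => j ≤ h v) e = 1 →
        |(h (ends e).2 : ℤ) - h (ends e).1| ≤ 1 := by
      intro j
      set Z := univ.filter fun v => j ≤ h v with hZ
      have h1 := (bi_iff d).mp hBI Zᶜ
      have h2 := (bi_iff d').mp hBI' Z
      rw [excess_compl, cut_compl] at h1
      rw [hd, excess_add_twist] at h1
      have hle : -(∑ v ∈ Z, twist ends (fun u => (h u : ℤ)) v) ≤ cut ends Z := by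
        by_contra hc
        push Not at hc
        have := mul_lt_mul_of_pos_left hc hK
        linarith
      have hterm : ∀ e, crossInd ends Z e ≤ -((fun u => (h u : ℤ)) (ends e).2 - (fun u => (h u : ℤ)) (ends e).1) *
          ((if (ends e).1 ∈ Z then 1 else 0) - (if (ends e).2 ∈ Z then 1 else 0)) := by
        intro e
        simp only [crossInd, hZ, Finset.mem_filter, Finset.mem_univ, true_and]
        split_ifs <;> omega
      rw [sum_twist_subset, cut_eq_sum, ← Finset.sum_neg_distrib] at hle
      simp only [← neg_mul] at hle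
      have heq := (Finset.sum_eq_sum_iff_of_le fun e _ => hterm e).mp
        (le_antisymm (Finset.sum_le_sum fun e _ => hterm e) hle)
      intro e he
      have h3 := heq e (Finset.mem_univ e)
      rw [he] at h3
      simp only [crossInd, hZ, Finset.mem_filter, Finset.mem_univ, true_and] at h3 he
      rw [abs_le]
      split_ifs at h3 he <;> omega
    intro e
    rcases lt_trichotomy (h (ends e).1) (h (ends e).2) with hlt | heq | hlt
    · have := key (h (ends e).2) e (by
        simp only [crossInd, Finset.mem_filter, Finset.mem_univ, true_and]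
        rw [if_pos]; omega)
      rw [abs_le] at this; omega
    · omega
    · have := key (h (ends e).1) e (by
        simp only [crossInd, Finset.mem_filter, Finset.mem_univ, true_and]
        rw [if_pos]; omega)
      rw [abs_le] at this; omega
  have hcross : ∀ i v, i < h v → ∃ e, (h (ends e).1 = i ∧ h (ends e).2 = i + 1) ∨
      (h (ends e).1 = i + 1 ∧ h (ends e).2 = i) := by
    intro i v
    induction hconn.2 v₀ v with
    | refl => simp [h]
    | @tail y z _ hyz ih =>
      intro hz
      by_cases hy : i < h y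
      · exact ih hy
      · obtain ⟨e, he⟩ := hyz
        have := hstep e
        rcases he with he | he <;> rw [he] at this <;> refine ⟨e, ?_⟩ <;> rw [he] <;> dsimp only at this ⊢ <;> omega
  obtain ⟨v₁, -, hv₁⟩ := Finset.exists_max_image (univ : Finset V) h univ_nonempty
  refine ⟨h v₁, h, fun v => hv₁ v (Finset.mem_univ v), fun i hi => ?_, htw, fun i j hi hj hij => ?_⟩
  · rcases Nat.eq_or_lt_of_le hi with rfl | hlt
    · exact ⟨v₁, rfl⟩
    · obtain ⟨e, he | he⟩ := hcross i v₁ hlt
      · exact ⟨_, he.1⟩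
      · exact ⟨_, he.2⟩
  · constructor
    · rintro ⟨e, he⟩
      have := hstep e
      omega
    · intro hc
      rcases hc with rfl | rfl
      · obtain ⟨e, he⟩ := hcross i v₁ (by omega)
        exact ⟨e, he⟩
      · obtain ⟨e, he⟩ := hcross j v₁ (by omega)
        exact ⟨e, he.symm⟩

theorem exceptional_edges {v : V} (hv : IsExceptional ends w v) :
    (univ.filter fun e => (ends e).1 = v ∨ (ends e).2 = v).card = 2 := by
  rw [← hv.2.2, cut]
  refine congrArg Finset.card (Finset.filter_congr fun e _ => ?_)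
  simp only [Finset.mem_singleton]
  have := hv.2.1 e
  constructor
  · rintro (h | h)
    · exact Or.inl ⟨h, fun h' => this (Prod.ext h h')⟩
    · exact Or.inr ⟨fun h' => this (Prod.ext h' h), h⟩
  · tauto

theorem canDeg_exceptional {v : V} (hv : IsExceptional ends w v) :
    2 * (w v : ℤ) - 2 + (endCount ends univ v : ℤ) = 0 := by
  have h : endCount ends univ v = 2 := by
    rw [← exceptional_edges hv, Finset.card_filter, endCount]
    refine Finset.sum_congr rfl fun e _ => ?_
    have := hv.2.1 e
    by_cases h1 : (ends e).1 = v <;> by_cases h2 : (ends e).2 = v <;> simp [h1, h2]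
    exact this (Prod.ext h1 h2)
  rw [hv.1, h]; norm_num

theorem not_adjacent_of_extreme (hK : 0 < canDeg ends w univ) (d : V → ℤ)
    (hBI : SatisfiesBI ends w d) (hone : ∀ v, IsExceptional ends w v → d v = 1) (Z : Finset V)
    (hZ : 2 * excess ends w d Z = (cut ends Z : ℤ) * canDeg ends w univ) {v : V}
    (hv : IsExceptional ends w v) (hvZ : v ∉ Z) (e : E) :
    ¬ (((ends e).1 = v ∧ (ends e).2 ∈ Z) ∨ ((ends e).2 = v ∧ (ends e).1 ∈ Z)) := by
  intro he
  have h1 := (bi_iff d).mp hBI (insert v Z)
  have hex : excess ends w d (insert v Z) = excess ends w d Z + canDeg ends w univ := by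
    unfold excess
    rw [Finset.sum_insert hvZ, hone v hv,
      show canDeg ends w (insert v Z) = canDeg ends w Z from by
        unfold canDeg; rw [Finset.sum_insert hvZ, canDeg_exceptional hv, zero_add]]
    ring
  have hcut : (cut ends (insert v Z) : ℤ) ≤ cut ends Z := by
    set A := univ.filter fun x => (ends x).1 = v ∨ (ends x).2 = v
    rw [cut_eq_sum, cut_eq_sum, ← Finset.sum_add_sum_compl A, ← Finset.sum_add_sum_compl A (crossInd ends Z)]
    have hout : ∑ x ∈ Aᶜ, crossInd ends (insert v Z) x = ∑ x ∈ Aᶜ, crossInd ends Z x := by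
      refine Finset.sum_congr rfl fun x hx => ?_
      simp only [A, Finset.mem_compl, Finset.mem_filter, Finset.mem_univ, true_and, not_or] at hx
      simp [crossInd, Finset.mem_insert, hx.1, hx.2]
    have heA : e ∈ A := by
      simp only [A, Finset.mem_filter, Finset.mem_univ, true_and]; tauto
    have h2 : A.card = 2 := exceptional_edges hv
    rw [hout, ← Finset.sum_erase_add A _ heA, ← Finset.sum_erase_add A (crossInd ends Z) heA]
    have h3 : ∑ x ∈ A.erase e, crossInd ends (insert v Z) x ≤ 1 := by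
      calc _ ≤ ∑ _x ∈ A.erase e, (1 : ℤ) := Finset.sum_le_sum fun x _ => by
            unfold crossInd; split_ifs <;> simp
        _ = 1 := by simp [Finset.card_erase_of_mem heA, h2]
    have h4 : crossInd ends (insert v Z) e = 0 := by
      refine if_neg ?_
      rcases he with ⟨ha, hb⟩ | ⟨ha, hb⟩ <;> simp [ha, hb]
    have h5 : crossInd ends Z e = 1 := by
      refine if_pos ?_
      rcases he with ⟨ha, hb⟩ | ⟨ha, hb⟩ <;> simp [ha, hb, hvZ]
    have h6 : 0 ≤ ∑ x ∈ A.erase e, crossInd ends Z x :=
      Finset.sum_nonneg fun x _ => crossInd_nonneg Z x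
    linarith
  have := mul_le_mul_of_nonneg_right hcut hK.le
  linarith

theorem eq_of_nested (hK : 0 < canDeg ends w univ) (d d' : V → ℤ)
    (hBI : SatisfiesBI ends w d)
    (hone : ∀ v : V, IsExceptional ends w v → d v = 1) (hone' : ∀ v : V, IsExceptional ends w v → d' v = 1)
    (hstrict : ∀ Y : Finset V, Y.Nonempty → Y ≠ Finset.univ →
      2 * excess ends w d Y = (cut ends Y : ℤ) * canDeg ends w univ →
      ∀ e : E, (((ends e).1 ∈ Y ∧ (ends e).2 ∉ Y) ∨ ((ends e).1 ∉ Y ∧ (ends e).2 ∈ Y)) →
        (IsExceptional ends w (ends e).1 ∨ IsExceptional ends w (ends e).2))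
    (m : ℕ) (Z : Fin m → Finset V) (hmono : ∀ i j : Fin m, i ≤ j → Z i ⊆ Z j)
    (hext : ∀ i : Fin m, 2 * excess ends w d (Z i) = (cut ends (Z i) : ℤ) * canDeg ends w univ)
    (hsum : ∀ v : V, d' v = d v + ∑ i : Fin m, twist ends (fun u => if u ∈ Z i then (1 : ℤ) else 0) v) :
    d = d' := by
  have hno : ∀ i e, ((ends e).1 ∈ Z i ↔ (ends e).2 ∈ Z i) := by
    intro i e
    by_contra hcr
    obtain ⟨a, b, hab, ha, hb⟩ : ∃ a b, (ends e = (a, b) ∨ ends e = (b, a)) ∧ a ∈ Z i ∧ b ∉ Z i := by
      by_cases h1 : (ends e).1 ∈ Z i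
      · exact ⟨_, _, Or.inl rfl, h1, fun h => hcr (iff_of_true h1 h)⟩
      · exact ⟨_, _, Or.inr rfl, Classical.byContradiction fun h => hcr (iff_of_false h1 h), h1⟩
    have hbne : ¬ IsExceptional ends w b := fun hex =>
      not_adjacent_of_extreme hK d hBI hone (Z i) (hext i) hex hb e (by
        rcases hab with h | h <;> simp [h, ha])
    have haex : IsExceptional ends w a := by
      have hne : Z i ≠ univ := fun h => hb (h ▸ Finset.mem_univ b)
      have := hstrict (Z i) ⟨a, ha⟩ hne (hext i) e (by rcases hab with h | h <;> simp [h, ha, hb])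
      rcases hab with h | h <;> simp only [h] at this <;> tauto
    -- the twist vanishes at `a`
    set hf : V → ℤ := fun u => ∑ j : Fin m, if u ∈ Z j then 1 else 0
    have htw : twist ends hf a = 0 := by
      have h1 := hsum a
      rw [hone a haex, hone' a haex] at h1
      have : twist ends hf a = ∑ j : Fin m, twist ends (fun u => if u ∈ Z j then (1 : ℤ) else 0) a := by
        unfold twist
        rw [Finset.sum_comm]
        refine Finset.sum_congr rfl fun x _ => ?_
        simp only [hf, ← Finset.sum_sub_distrib, Finset.sum_add_distrib]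
        split_ifs <;> simp
      linarith
    have hlow : hf b < hf a := by
      refine Finset.sum_lt_sum (fun j _ => ?_) ⟨i, Finset.mem_univ i, by simp [ha, hb]⟩
      by_cases hbj : b ∈ Z j
      · have : i ≤ j := by
          by_contra hc
          exact hb (hmono j i (le_of_lt (not_le.mp hc)) hbj)
        simp [hbj, hmono i j this ha]
      · simp [hbj]; split_ifs <;> simp
    have : ∃ x y, (ends x = (a, y) ∨ ends x = (y, a)) ∧ hf a < hf y := by
      by_contra hc
      push Not at hc
      have hneg : ∀ x ∈ (univ : Finset E), 0 ≤ -((if (ends x).1 = a then hf (ends x).2 - hf (ends x).1 else 0) +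
          (if (ends x).2 = a then hf (ends x).1 - hf (ends x).2 else 0)) := by
        intro x _
        have h1 : (ends x).1 = a → hf (ends x).2 ≤ hf a := fun h => hc x _ (Or.inl (by rw [← h]))
        have h2 : (ends x).2 = a → hf (ends x).1 ≤ hf a := fun h => hc x _ (Or.inr (by rw [← h]))
        split_ifs with g1 g2 g2
        · rw [g1, g2]; simp
        · rw [g1]; linarith [h1 g1]
        · rw [g2]; linarith [h2 g2]
        · simp
      have h0 := (Finset.sum_eq_zero_iff_of_nonneg hneg).mp
        (by rw [Finset.sum_neg_distrib, neg_eq_zero]; exact htw) e (Finset.mem_univ e)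
      have hne : b ≠ a := fun h => hb (h ▸ ha)
      rcases hab with h | h <;> simp [h, hne] at h0 <;> linarith
    obtain ⟨x, y, hxy, hlt⟩ := this
    obtain ⟨k, -, hk⟩ := Finset.exists_lt_of_sum_lt hlt
    have hak : a ∉ Z k ∧ y ∈ Z k := by
      by_cases h1 : a ∈ Z k <;> by_cases h2 : y ∈ Z k <;> simp [h1, h2] at hk ⊢
    exact not_adjacent_of_extreme hK d hBI hone (Z k) (hext k) haex hak.1 x (by
      rcases hxy with h | h <;> simp [h, hak.2])
  funext v
  rw [hsum v, eq_comm]
  simp only [add_eq_left]
  refine Finset.sum_eq_zero fun i _ => Finset.sum_eq_zero fun e _ => ?_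
  simp only [if_congr (hno i e) rfl rfl, sub_self, ite_self, add_zero]

theorem bi_pullback (hq : IsQuasistableGraph ends w) (hK : 0 ≤ canDeg ends w univ) (S : Finset V)
    (hS : ∀ v ∈ S, IsExceptional ends w v) (dt : V → ℤ) (hzero : ∀ v ∈ S, dt v = 0)
    (hBI : ∀ W : Finset V, Disjoint W S →
      2 * |canDeg ends w Finset.univ * (∑ v ∈ W, dt v) - (∑ v, dt v) * canDeg ends w (Finset.univ.filter (fun v : V => v ∈ W ∨ (v ∈ S ∧ ∀ e : E, ((ends e).1 = v → (ends e).2 ∈ W) ∧ ((ends e).2 = v → (ends e).1 ∈ W))))|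
        ≤ (cut ends (Finset.univ.filter (fun v : V => v ∈ W ∨ (v ∈ S ∧ ∀ e : E, ((ends e).1 = v → (ends e).2 ∈ W) ∧ ((ends e).2 = v → (ends e).1 ∈ W)))) : ℤ) * canDeg ends w Finset.univ) :
    SatisfiesBI ends w dt := by
  intro Y
  have h := hBI (Y \ S) Finset.sdiff_disjoint
  set Y' := Finset.univ.filter (fun v : V => v ∈ Y \ S ∨ (v ∈ S ∧ ∀ e : E, ((ends e).1 = v → (ends e).2 ∈ Y \ S) ∧ ((ends e).2 = v → (ends e).1 ∈ Y \ S))) with hY'
  have hout : ∀ v, v ∉ S → (v ∈ Y' ↔ v ∈ Y) := fun v hv => by simp [hY', hv]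
  have hd : ∑ v ∈ Y \ S, dt v = ∑ v ∈ Y, dt v := by
    refine Finset.sum_subset Finset.sdiff_subset fun v hv hnv => hzero v ?_
    by_contra hc
    exact hnv (Finset.mem_sdiff.mpr ⟨hv, hc⟩)
  have hcd : ∀ T : Finset V, canDeg ends w T = ∑ v ∈ T \ S, (2 * (w v : ℤ) - 2 + (endCount ends univ v : ℤ)) := by
    intro T
    refine (Finset.sum_subset Finset.sdiff_subset fun v hv hnv => canDeg_exceptional (hS v ?_)).symm
    by_contra hc
    exact hnv (Finset.mem_sdiff.mpr ⟨hv, hc⟩)
  have hc : canDeg ends w Y' = canDeg ends w Y := by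
    rw [hcd, hcd]
    refine Finset.sum_congr (Finset.ext fun v => ?_) fun _ _ => rfl
    simp only [Finset.mem_sdiff]
    constructor <;> rintro ⟨h1, h2⟩ <;> exact ⟨by simpa [hout v h2] using h1, h2⟩
  have hSS : ∀ e, (ends e).1 ∈ S → (ends e).2 ∉ S := by
    intro e h1 h2
    by_cases he : (ends e).1 = (ends e).2
    · exact (hS _ h1).2.1 e (Prod.ext rfl he.symm)
    · exact hq.2 e he ⟨hS _ h1, hS _ h2⟩
  have hcut : (cut ends Y' : ℤ) ≤ cut ends Y := by
    have split : ∀ (T : Finset V) e, crossInd ends T e =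
        (if (ends e).1 ∉ S ∧ (ends e).2 ∉ S then crossInd ends T e else 0) +
          ∑ v ∈ S, if (ends e).1 = v ∨ (ends e).2 = v then crossInd ends T e else 0 := by
      intro T e
      by_cases h1 : (ends e).1 ∈ S
      · rw [if_neg (fun h => h.1 h1), zero_add, Finset.sum_eq_single (ends e).1, if_pos (Or.inl rfl)]
        · intro v hv hne
          rw [if_neg]
          rintro (h | h)
          · exact hne h.symm
          · exact hSS e h1 (h ▸ hv)
        · exact fun h => absurd h1 h
      · by_cases h2 : (ends e).2 ∈ S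
        · rw [if_neg (fun h => h.2 h2), zero_add, Finset.sum_eq_single (ends e).2, if_pos (Or.inr rfl)]
          · intro v hv hne
            rw [if_neg]
            rintro (h | h)
            · exact h1 (h ▸ hv)
            · exact hne h.symm
          · exact fun h => absurd h2 h
        · rw [if_pos ⟨h1, h2⟩, Finset.sum_eq_zero, add_zero]
          intro v hv
          rw [if_neg]
          rintro (h | h)
          · exact h1 (h ▸ hv)
          · exact h2 (h ▸ hv)
    rw [cut_eq_sum, cut_eq_sum, Finset.sum_congr rfl fun e _ => split Y' e,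
      Finset.sum_congr rfl fun e _ => split Y e, Finset.sum_add_distrib, Finset.sum_add_distrib]
    refine add_le_add (le_of_eq (Finset.sum_congr rfl fun e _ => ?_)) ?_
    · by_cases hcs : (ends e).1 ∉ S ∧ (ends e).2 ∉ S
      · simp only [crossInd, hout _ hcs.1, hout _ hcs.2]
      · simp only [if_neg hcs]
    rw [Finset.sum_comm, Finset.sum_comm (t := S)]
    refine Finset.sum_le_sum fun v hv => ?_
    have hA := exceptional_edges (hS v hv)
    rw [← Finset.sum_filter, ← Finset.sum_filter]
    obtain ⟨e₁, e₂, hne, hA'⟩ := Finset.card_eq_two.mp hA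
    rw [hA', Finset.sum_pair hne, Finset.sum_pair hne]
    have hmem : ∀ x, ((ends x).1 = v ∨ (ends x).2 = v) ↔ (x = e₁ ∨ x = e₂) := by
      intro x
      have := Finset.ext_iff.mp hA' x
      simpa using this
    have hval : ∀ x, (x = e₁ ∨ x = e₂) → ∃ o, o ∉ S ∧ (ends x = (v, o) ∨ ends x = (o, v)) := by
      intro x hx
      rcases (hmem x).mpr hx with hxv | hxv
      · exact ⟨(ends x).2, hSS x (hxv ▸ hv), Or.inl (by rw [← hxv])⟩
      · exact ⟨(ends x).1, fun h => hSS x h (hxv ▸ hv), Or.inr (by rw [← hxv])⟩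
    obtain ⟨o₁, ho₁, he₁⟩ := hval e₁ (Or.inl rfl)
    obtain ⟨o₂, ho₂, he₂⟩ := hval e₂ (Or.inr rfl)
    have hvY' : v ∈ Y' ↔ (o₁ ∈ Y ∧ o₂ ∈ Y) := by
      have hvW : v ∉ Y \ S := fun h => (Finset.mem_sdiff.mp h).2 hv
      simp only [hY', Finset.mem_filter, Finset.mem_univ, true_and, hvW, false_or, hv]
      constructor
      · intro hall
        constructor
        · rcases he₁ with h | h
          · have := (hall e₁).1 (by rw [h])
            rw [h] at this; exact (Finset.mem_sdiff.mp this).1
          · have := (hall e₁).2 (by rw [h])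
            rw [h] at this; exact (Finset.mem_sdiff.mp this).1
        · rcases he₂ with h | h
          · have := (hall e₂).1 (by rw [h])
            rw [h] at this; exact (Finset.mem_sdiff.mp this).1
          · have := (hall e₂).2 (by rw [h])
            rw [h] at this; exact (Finset.mem_sdiff.mp this).1
      · rintro ⟨g₁, g₂⟩ x
        have hov : ∀ o, o ∉ S → o ≠ v := fun o ho h => ho (h ▸ hv)
        constructor <;> intro hx
        · rcases (hmem x).mp (Or.inl hx) with rfl | rfl
          · rcases he₁ with h | h <;> simp [h, Finset.mem_sdiff, g₁, ho₁] at hx ⊢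
            exact absurd hx (hov _ ho₁)
          · rcases he₂ with h | h <;> simp [h, Finset.mem_sdiff, g₂, ho₂] at hx ⊢
            exact absurd hx (hov _ ho₂)
        · rcases (hmem x).mp (Or.inr hx) with rfl | rfl
          · rcases he₁ with h | h <;> simp [h, Finset.mem_sdiff, g₁, ho₁] at hx ⊢
            exact absurd hx (hov _ ho₁)
          · rcases he₂ with h | h <;> simp [h, Finset.mem_sdiff, g₂, ho₂] at hx ⊢
            exact absurd hx (hov _ ho₂)
    rcases he₁ with h₁ | h₁ <;> rcases he₂ with h₂ | h₂ <;>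
      simp only [crossInd, h₁, h₂, hout _ ho₁, hout _ ho₂, hvY'] <;>
      by_cases g : v ∈ Y <;> by_cases g₁ : o₁ ∈ Y <;> by_cases g₂ : o₂ ∈ Y <;> simp [g, g₁, g₂]
  rw [hd, hc] at h
  exact h.trans (mul_le_mul_of_nonneg_right hcut hK)

end Groth.Agent.LabGraph6BI
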