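import Groth.Prelude.Def_W4c2conddiscmodels
import Mathlib.Tactic

/-!
# Multigraphs with a multiplicity function: the matrix as an edge sum
-/

universe u

open Finset

namespace Groth.Agent.LabGraph6

variable {V E : Type u} [Fintype V] [Fintype E] [DecidableEq V] [DecidableEq E]
variable (ends : E → V × V) (β : V → ℤ)

/-- The contribution of one edge to the neighbour sum. -/
def eterm (e : E) (g : V → ℤ) (v : V) : ℤ :=
  (if (ends e).1 = v ∧ (ends e).2 ≠ v then g (ends e).2 else 0) +
    (if (ends e).2 = v ∧ (ends e).1 ≠ v then g (ends e).1 else 0)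

/-- The neighbour sum `Σ_{w ≠ v} g w · edgeMult v w`. -/
def nb (g : V → ℤ) (v : V) : ℤ := ∑ e, eterm ends e g v

theorem sum_erase_edgeMult (g : V → ℤ) (v : V) :
    ∑ w ∈ univ.erase v, g w * (LabGraph.edgeMult ends v w : ℤ) = nb ends g v := by
  have h1 : ∀ w, g w * (LabGraph.edgeMult ends v w : ℤ) =
      ∑ e, if ends e = (v, w) ∨ ends e = (w, v) then g w else 0 := by
    intro w
    rw [LabGraph.edgeMult, ← Finset.sum_filter, Finset.sum_const, nsmul_eq_mul, mul_comm]
  simp only [h1]
  rw [Finset.sum_comm]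
  refine Finset.sum_congr rfl fun e _ => ?_
  rcases hab : ends e with ⟨a, b⟩
  simp only [eterm, hab, Prod.mk.injEq]
  by_cases ha : a = v
  · by_cases hb : b = v
    · subst ha hb
      simp only [ne_eq, not_true_eq_false, and_false, ite_false, add_zero]
      refine Finset.sum_eq_zero fun w hw => if_neg ?_
      rintro (⟨-, h⟩ | ⟨h, -⟩) <;> exact (Finset.mem_erase.mp hw).1 h.symm
    · subst ha
      rw [Finset.sum_eq_single b]
      · simp [hb]
      · intro w _ hw
        refine if_neg ?_
        rintro (⟨-, h⟩ | ⟨-, h⟩)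
        · exact hw h.symm
        · exact hb h
      · intro h; exact absurd (Finset.mem_erase.mpr ⟨hb, Finset.mem_univ _⟩) h
  · by_cases hb : b = v
    · subst hb
      rw [Finset.sum_eq_single a]
      · simp [ha]
      · intro w _ hw
        refine if_neg ?_
        rintro (⟨h, -⟩ | ⟨h, -⟩)
        · exact ha h
        · exact hw h.symm
      · intro h; exact absurd (Finset.mem_erase.mpr ⟨ha, Finset.mem_univ _⟩) h
    · simp only [ha, hb, false_and, ite_false, add_zero]
      refine Finset.sum_eq_zero fun w _ => if_neg ?_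
      rintro (⟨h, -⟩ | ⟨-, h⟩) <;> exact h.elim

theorem mfMatrix_self (v : V) : LabGraph.mfMatrix ends β v v = -nb ends β v / β v := by
  rw [LabGraph.mfMatrix, if_pos rfl, sum_erase_edgeMult]

theorem mfMatrix_of_ne {v w : V} (h : v ≠ w) :
    LabGraph.mfMatrix ends β v w = (LabGraph.edgeMult ends v w : ℤ) := if_neg h

theorem mulVec_apply (y : V → ℤ) (v : V) :
    Matrix.mulVec (LabGraph.mfMatrix ends β) y v =
      LabGraph.mfMatrix ends β v v * y v + nb ends y v := by
  rw [Matrix.mulVec, dotProduct, ← Finset.add_sum_erase _ _ (Finset.mem_univ v), ← sum_erase_edgeMult]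
  congr 1
  refine Finset.sum_congr rfl fun w hw => ?_
  rw [mfMatrix_of_ne ends β (Finset.mem_erase.mp hw).1.symm, mul_comm]

variable {ends β}

theorem beta_pos (hβ : LabGraph.IsMultFn ends β) (v : V) : 0 < β v := (hβ v).1

theorem self_mul_beta (hβ : LabGraph.IsMultFn ends β) (v : V) :
    LabGraph.mfMatrix ends β v v * β v = -nb ends β v := by
  rw [mfMatrix_self, Int.ediv_mul_cancel]
  have := (hβ v).2
  rw [sum_erase_edgeMult] at this
  exact dvd_neg.mpr this

theorem mulVec_beta (hβ : LabGraph.IsMultFn ends β) :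
    Matrix.mulVec (LabGraph.mfMatrix ends β) β = 0 := by
  funext v
  rw [mulVec_apply, self_mul_beta hβ]
  simp

theorem mfMatrix_comm (v w : V) : LabGraph.mfMatrix ends β v w = LabGraph.mfMatrix ends β w v := by
  rcases eq_or_ne v w with rfl | h
  · rfl
  · rw [mfMatrix_of_ne ends β h, mfMatrix_of_ne ends β h.symm]
    simp only [LabGraph.edgeMult, or_comm]

/-- `β` pairs to zero with the image of the matrix. -/
theorem sum_beta_mulVec (hβ : LabGraph.IsMultFn ends β) (y : V → ℤ) :
    ∑ v, β v * Matrix.mulVec (LabGraph.mfMatrix ends β) y v = 0 := by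
  simp only [Matrix.mulVec, dotProduct, Finset.mul_sum]
  rw [Finset.sum_comm]
  refine Finset.sum_eq_zero fun w _ => ?_
  have h := congrFun (mulVec_beta hβ) w
  simp only [Matrix.mulVec, dotProduct, Pi.zero_apply] at h
  rw [← mul_zero (y w), ← h, Finset.mul_sum]
  refine Finset.sum_congr rfl fun v _ => ?_
  rw [mfMatrix_comm v w]; ring

theorem betaHom_apply (β : V → ℤ) (x : V → ℤ) : LabGraph.betaHom β x = ∑ v, β v * x v := by
  rw [LabGraph.betaHom, Fintype.linearCombination_apply]
  simp [mul_comm]

theorem range_le_ker (hβ : LabGraph.IsMultFn ends β) :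
    LinearMap.range (Matrix.mulVecLin (LabGraph.mfMatrix ends β)) ≤
      LinearMap.ker (LabGraph.betaHom β) := by
  rintro x ⟨y, rfl⟩
  rw [LinearMap.mem_ker, betaHom_apply]
  exact sum_beta_mulVec hβ y

theorem eterm_nonneg {g : V → ℤ} (hg : ∀ v, 0 ≤ g v) (e : E) (v : V) : 0 ≤ eterm ends e g v := by
  unfold eterm
  split_ifs <;> simp [hg, add_nonneg]

/-- An element of the kernel is a rational multiple of `β`. -/
theorem mul_eq_mul_of_mulVec_eq_zero (hβ : LabGraph.IsMultFn ends β) (hG : LabGraph.Connected ends)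
    {y : V → ℤ} (hy : Matrix.mulVec (LabGraph.mfMatrix ends β) y = 0) (v w : V) :
    β w * y v = β v * y w := by
  obtain ⟨v₀, -, hv₀⟩ := Finset.exists_max_image (univ : Finset V)
    (fun v => (y v : ℚ) / β v) ⟨hG.1.some, Finset.mem_univ _⟩
  let z : V → ℤ := fun v => β v * y v₀ - β v₀ * y v
  have hz : ∀ v, 0 ≤ z v := by
    intro v
    have h1 := hv₀ v (Finset.mem_univ _)
    have hp : (0 : ℚ) < β v := by exact_mod_cast beta_pos hβ v
    have hq : (0 : ℚ) < β v₀ := by exact_mod_cast beta_pos hβ v₀
    rw [div_le_div_iff₀ hp hq] at h1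
    have h2 : y v * β v₀ ≤ y v₀ * β v := by exact_mod_cast h1
    simp only [z]; linarith
  have hzker : Matrix.mulVec (LabGraph.mfMatrix ends β) z = 0 := by
    have : z = y v₀ • β - β v₀ • y := by funext v; simp [z, mul_comm]
    rw [this, Matrix.mulVec_sub, Matrix.mulVec_smul, Matrix.mulVec_smul, mulVec_beta hβ, hy]
    simp
  have hclosed : ∀ a b, LabGraph.Adj ends a b → z a = 0 → z b = 0 := by
    intro a b hab ha
    rcases eq_or_ne b a with rfl | hne
    · exact ha
    have h1 := congrFun hzker a
    rw [mulVec_apply, ha, mul_zero, zero_add, Pi.zero_apply] at h1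
    obtain ⟨e, he⟩ := hab
    have h2 : eterm ends e z a = 0 :=
      (Finset.sum_eq_zero_iff_of_nonneg fun e _ => eterm_nonneg hz e a).mp h1 e (Finset.mem_univ _)
    rcases he with he | he <;> simp [eterm, he, hne, hne.symm] at h2 <;> exact h2
  have hall : ∀ v, z v = 0 := by
    intro v
    have h := hG.2 v₀ v
    induction h with
    | refl => simp [z]
    | tail _ hab ih => exact hclosed _ _ hab ih
  have hv := hall v
  have hw := hall w
  simp only [z] at hv hw
  have h0 : β v₀ ≠ 0 := (beta_pos hβ v₀).ne'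
  apply mul_left_cancel₀ h0
  linear_combination (β v) * hw - (β w) * hv

end Groth.Agent.LabGraph6
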