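import Groth.Agent.LabGraph6.Cartier

/-!
# The total blow-up of a labelled graph
-/

universe u

open Finset

namespace Groth.Agent.LabGraph6

variable {V E : Type u} [Fintype V] [Fintype E] [DecidableEq V] [DecidableEq E]
variable {ends : E → V × V} {l : E → ℕ}

/-- Difference of a function along the path of an edge. -/
def dd (ends : E → V × V) (l : E → ℕ) (ψ : LabGraph.BlVert V E l → ℤ) (e : E) (k : ℕ) : ℤ :=
  ψ (LabGraph.pathVert ends l e (k + 1)) - ψ (LabGraph.pathVert ends l e k)

theorem pathVert_eq_inl {e : E} {k : ℕ} (hk : k < l e) (v : V) :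
    LabGraph.pathVert ends l e k = Sum.inl v ↔ k = 0 ∧ (ends e).1 = v := by
  unfold LabGraph.pathVert
  split_ifs with h0 <;> simp [*]

theorem pathVert_succ_eq_inl {e : E} {k : ℕ} (hk : k < l e) (v : V) :
    LabGraph.pathVert ends l e (k + 1) = Sum.inl v ↔ k + 1 = l e ∧ (ends e).2 = v := by
  unfold LabGraph.pathVert
  by_cases h1 : k + 1 < l e
  · simp [h1]; omega
  · simp [h1]; omega

theorem pathVert_eq_inr {e e' : E} {k : ℕ} (i : Fin (l e' - 1)) :
    LabGraph.pathVert ends l e k = Sum.inr ⟨e', i⟩ ↔ e = e' ∧ k = (i : ℕ) + 1 := by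
  unfold LabGraph.pathVert
  have hi := i.2
  constructor
  · intro h
    split_ifs at h with h0 h1
    simp only [Sum.inr.injEq, Sigma.mk.injEq] at h
    obtain ⟨rfl, h'⟩ := h
    exact ⟨rfl, by rw [← eq_of_heq h']; simp; omega⟩
  · rintro ⟨rfl, rfl⟩
    rw [dif_neg (by omega), dif_pos (by omega)]
    rfl

theorem mdeg_bl (ψ : LabGraph.BlVert V E l → ℤ) (w : LabGraph.BlVert V E l) :
    LabGraph.mdeg (LabGraph.blEnds ends l) (fun _ => 1) ψ w =
      ∑ e, ∑ k ∈ range (l e), ((if LabGraph.pathVert ends l e k = w then dd ends l ψ e k else 0) -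
        (if LabGraph.pathVert ends l e (k + 1) = w then dd ends l ψ e k else 0)) := by
  rw [LabGraph.mdeg, Fintype.sum_sigma]
  refine Finset.sum_congr rfl fun e _ => ?_
  rw [← Fin.sum_univ_eq_sum_range (fun k => ((if LabGraph.pathVert ends l e k = w then dd ends l ψ e k else 0) -
        (if LabGraph.pathVert ends l e (k + 1) = w then dd ends l ψ e k else 0))) (l e)]
  refine Finset.sum_congr rfl fun k _ => ?_
  simp only [LabGraph.blEnds, dd, Nat.cast_one, Int.ediv_one]
  split_ifs <;> ring

theorem mdeg_bl_inl (hl : ∀ e, 0 < l e) (ψ : LabGraph.BlVert V E l → ℤ) (v : V) :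
    LabGraph.mdeg (LabGraph.blEnds ends l) (fun _ => 1) ψ (Sum.inl v) =
      ∑ e, ((if (ends e).1 = v then dd ends l ψ e 0 else 0) -
        (if (ends e).2 = v then dd ends l ψ e (l e - 1) else 0)) := by
  rw [mdeg_bl]
  refine Finset.sum_congr rfl fun e _ => ?_
  rw [Finset.sum_sub_distrib]
  congr 1
  · rw [Finset.sum_eq_single 0]
    · simp [pathVert_eq_inl (hl e)]
    · intro k hk hne
      rw [if_neg]; rw [pathVert_eq_inl (Finset.mem_range.mp hk)]; simp [hne]
    · simp [(hl e).ne']
  · rw [Finset.sum_eq_single (l e - 1)]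
    · refine if_congr ?_ rfl rfl
      rw [pathVert_succ_eq_inl (show l e - 1 < l e from Nat.sub_lt (hl e) one_pos)]
      simp [Nat.sub_add_cancel (hl e)]
    · intro k hk hne
      rw [if_neg]
      rw [pathVert_succ_eq_inl (Finset.mem_range.mp hk)]
      rintro ⟨h, -⟩; omega
    · simp [(hl e).ne']

theorem mdeg_bl_inr (ψ : LabGraph.BlVert V E l → ℤ) (e : E) (i : Fin (l e - 1)) :
    LabGraph.mdeg (LabGraph.blEnds ends l) (fun _ => 1) ψ (Sum.inr ⟨e, i⟩) =
      dd ends l ψ e (i + 1) - dd ends l ψ e i := by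
  have hi := i.2
  rw [mdeg_bl, Finset.sum_eq_single e]
  · rw [Finset.sum_sub_distrib]
    congr 1
    · rw [Finset.sum_eq_single ((i : ℕ) + 1)]
      · rw [if_pos ((pathVert_eq_inr i).mpr ⟨rfl, rfl⟩)]
      · intro k _ hne; rw [if_neg fun h => hne ((pathVert_eq_inr i).mp h).2]
      · intro h; simp at h; omega
    · rw [Finset.sum_eq_single (i : ℕ)]
      · rw [if_pos ((pathVert_eq_inr i).mpr ⟨rfl, rfl⟩)]
      · intro k _ hne
        rw [if_neg fun h => hne (by have := ((pathVert_eq_inr i).mp h).2; omega)]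
      · intro h; simp at h; omega
  · intro e' _ hne
    refine Finset.sum_eq_zero fun k _ => ?_
    rw [if_neg fun h => hne ((pathVert_eq_inr i).mp h).1, if_neg fun h => hne ((pathVert_eq_inr i).mp h).1,
      sub_zero]
  · simp

theorem sum_dd (hl : ∀ e, 0 < l e) (ψ : LabGraph.BlVert V E l → ℤ) (e : E) :
    ∑ k ∈ range (l e), dd ends l ψ e k = ψ (Sum.inl (ends e).2) - ψ (Sum.inl (ends e).1) := by
  unfold dd
  rw [Finset.sum_range_sub (fun k => ψ (LabGraph.pathVert ends l e k))]
  simp [LabGraph.pathVert, (hl e).ne']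

theorem exists_cartier_of_blowup (hl : ∀ e, 0 < l e) (α : V → ℤ)
    (ψ : LabGraph.BlVert V E l → ℤ)
    (hψ : ∀ w : LabGraph.BlVert V E l,
      LabGraph.mdeg (LabGraph.blEnds ends l) (fun _ => 1) ψ w = Sum.elim α (fun _ => (0 : ℤ)) w) :
    ∃ φ : V → ℤ, LabGraph.IsCartier ends l φ ∧ ∀ v : V, LabGraph.mdeg ends l φ v = α v := by
  have hconst : ∀ e k, k < l e → dd ends l ψ e k = dd ends l ψ e 0 := by
    intro e k
    induction k with
    | zero => intro _; rfl
    | succ k ih =>
      intro hk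
      have h := hψ (Sum.inr ⟨e, ⟨k, by omega⟩⟩)
      rw [mdeg_bl_inr] at h
      simp only [Sum.elim_inr] at h
      rw [← ih (by omega)]
      linarith
  have hd : ∀ e, ψ (Sum.inl (ends e).2) - ψ (Sum.inl (ends e).1) = (l e : ℤ) * dd ends l ψ e 0 := by
    intro e
    rw [← sum_dd hl ψ e, Finset.sum_congr rfl fun k hk => hconst e k (Finset.mem_range.mp hk)]
    simp
  refine ⟨fun v => ψ (Sum.inl v), fun e => ⟨-dd ends l ψ e 0, by linarith [hd e]⟩, fun v => ?_⟩
  have h := hψ (Sum.inl v)
  rw [mdeg_bl_inl hl] at h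
  simp only [Sum.elim_inl] at h
  rw [← h, LabGraph.mdeg]
  refine Finset.sum_congr rfl fun e _ => ?_
  have hne : (l e : ℤ) ≠ 0 := by exact_mod_cast (hl e).ne'
  rw [hd e, hconst e (l e - 1) (Nat.sub_lt (hl e) one_pos), Int.mul_ediv_cancel_left _ hne,
    show ψ (Sum.inl (ends e).1) - ψ (Sum.inl (ends e).2) = (l e : ℤ) * (-dd ends l ψ e 0) by linarith [hd e],
    Int.mul_ediv_cancel_left _ hne]
  split_ifs <;> ring

theorem blowup_surjective_iff (hl : ∀ e, 0 < l e) :
    (∀ β : LabGraph.BlVert V E l → ℤ, ∃ (ψ : LabGraph.BlVert V E l → ℤ) (α : V → ℤ),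
        ∀ w : LabGraph.BlVert V E l,
          LabGraph.mdeg (LabGraph.blEnds ends l) (fun _ => 1) ψ w + β w = Sum.elim α (fun _ => (0 : ℤ)) w) ↔
      LabGraph.IsCircuitCoprime ends l := by
  rw [isCircuitCoprime_iff_potential]
  -- the partial sums of `-β` along a path
  let S : (LabGraph.BlVert V E l → ℤ) → E → ℕ → ℤ := fun β e k =>
    ∑ j ∈ range k, if hj : j < l e - 1 then -β (Sum.inr ⟨e, ⟨j, hj⟩⟩) else 0
  have hrec : ∀ β e k (hk : k + 1 < l e), S β e (k + 1) = S β e k + -β (Sum.inr ⟨e, ⟨k, by omega⟩⟩) := by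
    intro β e k hk
    simp only [S]
    rw [Finset.sum_range_succ, dif_pos (by omega)]
  constructor
  · intro h x
    obtain ⟨ψ, α, hψ⟩ := h (Sum.elim (fun _ => 0) fun p => if (p.2 : ℕ) + 2 = l p.1 then -x p.1 else 0)
    set β : LabGraph.BlVert V E l → ℤ :=
      Sum.elim (fun _ => 0) fun p => if (p.2 : ℕ) + 2 = l p.1 then -x p.1 else 0
    have hd : ∀ e k, k < l e → dd ends l ψ e k = dd ends l ψ e 0 + S β e k := by
      intro e k
      induction k with
      | zero => intro _; simp [S]
      | succ k ih =>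
        intro hk
        have h := hψ (Sum.inr ⟨e, ⟨k, by omega⟩⟩)
        rw [mdeg_bl_inr] at h
        simp only [Sum.elim_inr] at h
        rw [hrec β e k hk]
        linarith [ih (by omega)]
    refine ⟨fun v => ψ (Sum.inl v), fun e => ?_⟩
    dsimp only
    rw [← sum_dd hl ψ e, Finset.sum_congr rfl fun k hk => hd e k (Finset.mem_range.mp hk),
      Finset.sum_add_distrib, Finset.sum_const, Finset.card_range, nsmul_eq_mul]
    by_cases h1 : l e = 1
    · simp [h1]
    · have h2 : ∑ k ∈ range (l e), S β e k = x e := by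
        have hS : ∀ k < l e, S β e k = if k + 1 = l e then x e else 0 := by
          intro k
          induction k with
          | zero => intro _; simp [S, Ne.symm h1]
          | succ k ih =>
            intro hk
            rw [hrec β e k hk, ih (by omega), if_neg (by omega), zero_add]
            simp only [β, Sum.elim_inr]
            split_ifs <;> omega
        rw [Finset.sum_congr rfl fun k hk => hS k (Finset.mem_range.mp hk), Finset.sum_eq_single (l e - 1)]
        · rw [if_pos]; have := hl e; omega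
        · intro k _ hne; rw [if_neg]; omega
        · simp [(hl e).ne']
      rw [h2]
      exact ⟨-dd ends l ψ e 0, by ring⟩
  · intro h β
    obtain ⟨φ, hφ⟩ := h fun e => ∑ k ∈ range (l e), S β e k
    choose c hc using hφ
    let ψ : LabGraph.BlVert V E l → ℤ :=
      Sum.elim φ fun p => φ (ends p.1).1 + ∑ k ∈ range ((p.2 : ℕ) + 1), (-c p.1 + S β p.1 k)
    have hψ : ∀ e j, j ≤ l e →
        ψ (LabGraph.pathVert ends l e j) = φ (ends e).1 + ∑ k ∈ range j, (-c e + S β e k) := by
      intro e j hj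
      unfold LabGraph.pathVert
      split_ifs with h0 h1
      · subst h0; simp [ψ]
      · simp only [ψ, Sum.elim_inr]
        rw [show j - 1 + 1 = j by omega]
      · simp only [ψ, Sum.elim_inl]
        rw [show j = l e by omega, Finset.sum_add_distrib, Finset.sum_const, Finset.card_range,
          nsmul_eq_mul]
        linarith [hc e]
    have hdd : ∀ e k, k < l e → dd ends l ψ e k = -c e + S β e k := by
      intro e k hk
      rw [dd, hψ e (k + 1) hk, hψ e k hk.le, Finset.sum_range_succ]
      ring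
    refine ⟨ψ, fun v => LabGraph.mdeg (LabGraph.blEnds ends l) (fun _ => 1) ψ (Sum.inl v) + β (Sum.inl v),
      fun w => ?_⟩
    rcases w with v | ⟨e, i⟩
    · rfl
    · have hi := i.2
      rw [mdeg_bl_inr, hdd e (i + 1) (by omega), hdd e i (by omega), hrec β e i (by omega)]
      simp

end Groth.Agent.LabGraph6
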