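import Groth.Agent.LabGraph6.Cycles

/-!
# Cartier functions on labelled graphs
-/

universe u v

open Finset

namespace Groth.Agent.LabGraph6

variable {V E : Type u} [Fintype V] [Fintype E] [DecidableEq V] [DecidableEq E]
variable {ends : E → V × V} {l : E → ℕ}

theorem mdeg_eq_zero_iff (hl : ∀ e, 0 < l e) (hconn : LabGraph.Connected ends) (φ : V → ℤ)
    (hφ : LabGraph.IsCartier ends l φ) :
    (∀ v : V, LabGraph.mdeg ends l φ v = 0) ↔ ∀ v w : V, φ v = φ w := by
  constructor
  · intro h
    obtain ⟨v₀, -, hv₀⟩ := Finset.exists_max_image (univ : Finset V) φ ⟨hconn.1.some, Finset.mem_univ _⟩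
    have hmax : ∀ u, φ u ≤ φ v₀ := fun u => hv₀ u (Finset.mem_univ _)
    have hstep : ∀ a b, LabGraph.Adj ends a b → φ a = φ v₀ → φ b = φ v₀ := by
      intro a b hab ha
      have hnp : ∀ e ∈ (univ : Finset E), 0 ≤ -((if (ends e).1 = a then (φ (ends e).2 - φ (ends e).1) / (l e : ℤ) else 0) +
          (if (ends e).2 = a then (φ (ends e).1 - φ (ends e).2) / (l e : ℤ) else 0)) := by
        intro e _
        have hd1 : (ends e).1 = a → (φ (ends e).2 - φ (ends e).1) / (l e : ℤ) ≤ 0 := fun h => by
          rw [h, ha]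
          simpa using Int.ediv_le_ediv (c := (l e : ℤ)) (by exact_mod_cast hl e)
            (show φ (ends e).2 - φ v₀ ≤ 0 by linarith [hmax (ends e).2])
        have hd2 : (ends e).2 = a → (φ (ends e).1 - φ (ends e).2) / (l e : ℤ) ≤ 0 := fun h => by
          rw [h, ha]
          simpa using Int.ediv_le_ediv (c := (l e : ℤ)) (by exact_mod_cast hl e)
            (show φ (ends e).1 - φ v₀ ≤ 0 by linarith [hmax (ends e).1])
        split_ifs with h1 h2 h2 <;> simp
        · linarith [hd1 h1, hd2 h2]
        · linarith [hd1 h1]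
        · linarith [hd2 h2]
      have hsum := h a
      rw [LabGraph.mdeg, ← neg_eq_zero, ← Finset.sum_neg_distrib, Finset.sum_eq_zero_iff_of_nonneg hnp] at hsum
      obtain ⟨e, he⟩ := hab
      have h0 := hsum e (Finset.mem_univ e)
      rcases eq_or_ne b a with rfl | hne
      · exact ha
      have hdvd := hφ e
      rcases he with he | he <;> rw [he] at h0 hdvd <;> simp only [hne, if_true, if_false, add_zero,
          zero_add, neg_eq_zero] at h0
      · have := Int.eq_zero_of_ediv_eq_zero (dvd_sub_comm.mp hdvd) h0; linarith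
      · have := Int.eq_zero_of_ediv_eq_zero hdvd h0; linarith
    have hall : ∀ u, φ u = φ v₀ := by
      intro u
      induction hconn.2 v₀ u with
      | refl => rfl
      | tail _ hab ih => exact hstep _ _ hab ih
    intro v w; rw [hall v, hall w]
  · intro h v
    refine Finset.sum_eq_zero fun e _ => ?_
    rw [h (ends e).2 (ends e).1]; simp

/-! ### Splitting by an equivalence of labels -/

theorem exists_part (hconn : LabGraph.Connected ends) {L : Type v} (lab : E → L)
    (hcirc : ∀ C : Finset E, LabGraph.IsCircuit ends C → ∀ e ∈ C, ∀ e' ∈ C, lab e = lab e')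
    (f : V → ℤ) (B : L) :
    ∃ g : V → ℤ, (∀ e, lab e = B → g (ends e).2 - g (ends e).1 = f (ends e).2 - f (ends e).1) ∧
      ∀ e, lab e ≠ B → g (ends e).2 = g (ends e).1 := by
  classical
  obtain ⟨g, hg⟩ := exists_potential hconn
    (fun e => if lab e = B then f (ends e).2 - f (ends e).1 else 0) (fun γ hγ => by
      have h1 := cycle_restrict (ends := ends) (fun e => lab e = B) (fun C hC => by
        by_cases h : ∃ e ∈ C, lab e = B
        · obtain ⟨e, he, heB⟩ := h
          exact Or.inl fun e' he' => (hcirc C hC e' he' e he).trans heB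
        · exact Or.inr fun e he heB => h ⟨e, he, heB⟩) univ γ (fun e he => absurd (Finset.mem_univ e) he) hγ
      have h2 := sum_mul_boundary (ends := ends) f (fun e => if lab e = B then γ e else 0)
      simp only [h1, mul_zero, Finset.sum_const_zero] at h2
      refine (Finset.sum_congr rfl fun e _ => ?_).trans h2.symm
      split_ifs <;> simp)
  exact ⟨g, fun e he => by rw [hg e, if_pos he],
    fun e he => sub_eq_zero.mp (by rw [hg e, if_neg he])⟩

theorem mem_closure_preAchievable {L : Type v} (lab : E → L) {n : E → ℕ}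
    (hconn : LabGraph.Connected ends)
    (hcirc : ∀ C : Finset E, LabGraph.IsCircuit ends C → ∀ e ∈ C, ∀ e' ∈ C, lab e = lab e')
    (f : V → ℤ) (hf : LabGraph.IsCartier ends n f) :
    f ∈ AddSubmonoid.closure {g : V → ℤ | LabGraph.IsCartier ends n g ∧ (∃ B : Finset E, (∀ e ∈ B, ∀ e' ∈ B, lab e = lab e') ∧ ∀ e, e ∉ B → g (ends e).1 = g (ends e).2)} ∧
    ∀ v₀ : V, f v₀ = 0 →
      f ∈ AddSubmonoid.closure {g : V → ℤ | LabGraph.IsCartier ends n g ∧ (∃ B : Finset E, (∀ e ∈ B, ∀ e' ∈ B, lab e = lab e') ∧ ∀ e, e ∉ B → g (ends e).1 = g (ends e).2) ∧ g v₀ = 0} := by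
  classical
  choose g hg1 hg2 using fun B => exists_part hconn lab hcirc f B
  obtain ⟨u⟩ := hconn.1
  have key : ∀ v₀, f = (fun _ => f v₀) + ∑ B ∈ univ.image lab, fun v => g B v - g B v₀ := by
    intro v₀
    have hd : ∀ e, (∑ B ∈ univ.image lab, (g B (ends e).2 - g B v₀)) -
        (∑ B ∈ univ.image lab, (g B (ends e).1 - g B v₀)) = f (ends e).2 - f (ends e).1 := by
      intro e
      rw [← Finset.sum_sub_distrib, Finset.sum_eq_single (lab e)]
      · rw [← hg1 _ e rfl]; ring
      · intro B _ hB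
        rw [hg2 B e (Ne.symm hB)]; ring
      · intro h; exact absurd (Finset.mem_image_of_mem lab (Finset.mem_univ e)) h
    funext v
    simp only [Pi.add_apply, Finset.sum_apply]
    induction hconn.2 v₀ v with
    | refl => simp
    | tail _ hab ih =>
      obtain ⟨e, he⟩ := hab
      have := hd e
      rcases he with he | he <;> rw [he] at this <;> simp only at this <;> linarith
  have hmem : ∀ (v₀ : V) B, LabGraph.IsCartier ends n (fun v => g B v - g B v₀) ∧
      (∃ Bs : Finset E, (∀ e ∈ Bs, ∀ e' ∈ Bs, lab e = lab e') ∧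
        ∀ e, e ∉ Bs → g B (ends e).1 - g B v₀ = g B (ends e).2 - g B v₀) ∧ g B v₀ - g B v₀ = 0 := by
    intro v₀ B
    refine ⟨fun e => ?_, ⟨univ.filter fun e => lab e = B, fun e he e' he' => ?_, fun e he => ?_⟩, sub_self _⟩
    · rw [show g B (ends e).1 - g B v₀ - (g B (ends e).2 - g B v₀) = g B (ends e).1 - g B (ends e).2 by ring]
      by_cases he : lab e = B
      · rw [show g B (ends e).1 - g B (ends e).2 = f (ends e).1 - f (ends e).2 by linarith [hg1 B e he]]
        exact hf e
      · rw [hg2 B e he, sub_self]; exact dvd_zero _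
    · rw [(Finset.mem_filter.mp he).2, (Finset.mem_filter.mp he').2]
    · rw [hg2 B e fun h => he (Finset.mem_filter.mpr ⟨Finset.mem_univ e, h⟩)]
  refine ⟨?_, fun v₀ hv₀ => ?_⟩
  · rw [key u]
    refine add_mem (AddSubmonoid.subset_closure ⟨fun e => by simp, ∅, by simp, fun e _ => rfl⟩)
      (sum_mem fun B _ => AddSubmonoid.subset_closure ⟨(hmem u B).1, (hmem u B).2.1⟩)
  · rw [key v₀]
    exact add_mem (AddSubmonoid.subset_closure ⟨fun e => by simp, ⟨∅, by simp, fun e _ => rfl⟩, hv₀⟩)
      (sum_mem fun B _ => AddSubmonoid.subset_closure (hmem v₀ B))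

/-! ### Elementary Cartier functions -/

theorem reach_const {T : Finset E} {h : V → ℤ} {d : ℤ}
    (hT : ∀ e ∈ T, d ∣ h (ends e).1 - h (ends e).2) {a b : V} (hab : Reach ends T a b) :
    d ∣ h a - h b := by
  induction hab with
  | refl => simp
  | @tail y z _ hyz ih =>
    obtain ⟨e, he, h'⟩ := hyz
    have := hT e he
    rcases h' with h' | h' <;> rw [h'] at this
    · simpa using dvd_add ih this
    · simpa using dvd_sub ih this

theorem mem_span_elementary (hl : ∀ e, 0 < l e) (f : V → ℤ) (hf : LabGraph.IsCartier ends l f) :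
    f ∈ Submodule.span ℤ {g : V → ℤ | ∃ n : ℕ, 0 < n ∧ (∀ v, (n : ℤ) ∣ g v) ∧
      ∀ e, ¬ (l e ∣ n) → g (ends e).1 = g (ends e).2} := by
  classical
  set G := {g : V → ℤ | ∃ n : ℕ, 0 < n ∧ (∀ v, (n : ℤ) ∣ g v) ∧
      ∀ e, ¬ (l e ∣ n) → g (ends e).1 = g (ends e).2}
  set N := ∏ e, l e with hN
  have hN0 : 0 < N := Finset.prod_pos fun e _ => hl e
  have hlN : ∀ e, l e ∣ N := fun e => Finset.dvd_prod_of_mem l (Finset.mem_univ e)
  let I : Ideal ℤ :=
    { carrier := {c : ℤ | c • f ∈ Submodule.span ℤ G}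
      add_mem' := fun {a b} ha hb => by
        show (a + b) • f ∈ Submodule.span ℤ G
        rw [add_smul]; exact add_mem ha hb
      zero_mem' := by show (0 : ℤ) • f ∈ Submodule.span ℤ G; rw [zero_smul]; exact zero_mem _
      smul_mem' := fun c a ha => by
        show (c • a) • f ∈ Submodule.span ℤ G
        rw [smul_assoc]; exact Submodule.smul_mem _ c ha }
  have hNI : (N : ℤ) ∈ I := by
    refine Submodule.subset_span ⟨N, hN0, fun v => ⟨f v, by simp⟩, fun e he => absurd (hlN e) he⟩
  have key : ∀ p, p.Prime → ((N / p ^ N.factorization p : ℕ) : ℤ) ∈ I := by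
    intro p hp
    set K := N.factorization p
    set M := N / p ^ K with hM
    have hMK : p ^ K * M = N := Nat.ordProj_mul_ordCompl_eq_self N p
    have hM0 : 0 < M := Nat.ordCompl_pos p hN0.ne'
    show (M : ℤ) • f ∈ Submodule.span ℤ G
    let W : ℕ → Finset E := fun k => univ.filter fun e => k < (l e).factorization p
    let s : ℕ → Setoid V := fun k => ⟨Reach ends (W k), fun _ => .refl, reach_symm, Relation.ReflTransGen.trans⟩
    let c : ℕ → V → ℤ := fun k v => f (Quotient.out (Quotient.mk (s k) v))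
    have hrep : ∀ k v, Reach ends (W k) (Quotient.out (Quotient.mk (s k) v)) v := fun k v =>
      Quotient.exact (Quotient.out_eq (Quotient.mk (s k) v))
    have hconst : ∀ k a b, Reach ends (W k) a b → c k a = c k b := fun k a b h =>
      congrArg (fun q => f (Quotient.out q)) (Quotient.sound h)
    have hdvd : ∀ k a b, Reach ends (W k) a b → ((p ^ (k + 1) : ℕ) : ℤ) ∣ f a - f b := fun k a b h => by
      refine reach_const (fun e he => ?_) h
      refine dvd_trans ?_ (hf e)
      exact Int.natCast_dvd_natCast.mpr ((Nat.pow_dvd_pow p (Finset.mem_filter.mp he).2).trans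
        (Nat.ordProj_dvd (l e) p))
    have hedge : ∀ k e, ¬ (l e ∣ p ^ k * M) → Reach ends (W k) (ends e).1 (ends e).2 := by
      intro k e hne
      refine .single ⟨e, Finset.mem_filter.mpr ⟨Finset.mem_univ e, ?_⟩, Or.inl rfl⟩
      by_contra hk
      push Not at hk
      refine hne ?_
      rw [← Nat.ordProj_mul_ordCompl_eq_self (l e) p]
      exact Nat.mul_dvd_mul (Nat.pow_dvd_pow p hk) (Nat.ordCompl_dvd_ordCompl_of_dvd (hlN e) p)
    have hcK : c K = f := by
      funext v
      have h := hrep K v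
      have hW : W K = ∅ := Finset.filter_eq_empty_iff.mpr fun e _ => not_lt.mpr
        ((Nat.factorization_le_iff_dvd (hl e).ne' hN0.ne').mpr (hlN e) p)
      rw [hW] at h
      show f _ = f v
      rcases Relation.ReflTransGen.cases_head h with h | ⟨w, ⟨e, he, -⟩, -⟩
      · rw [h]
      · simp at he
    have hall : ∀ k ≤ K, (M : ℤ) • c k ∈ Submodule.span ℤ G := by
      intro k
      induction k with
      | zero =>
        intro _
        refine Submodule.subset_span ⟨M, hM0, fun v => ⟨c 0 v, by simp⟩, fun e he => ?_⟩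
        simp only [Pi.smul_apply]
        rw [hconst 0 _ _ (hedge 0 e (by simpa using he))]
      | succ k ih =>
        intro hk
        have hdiff : (M : ℤ) • (c (k + 1) - c k) ∈ G := by
          refine ⟨p ^ (k + 1) * M, Nat.mul_pos (pow_pos hp.pos _) hM0, fun v => ?_, fun e he => ?_⟩
          · have h1 : Reach ends (W k) (Quotient.out (Quotient.mk (s (k + 1)) v))
                (Quotient.out (Quotient.mk (s k) v)) :=
              (reach_mono (fun e he => Finset.mem_filter.mpr ⟨Finset.mem_univ e,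
                lt_trans (Nat.lt_succ_self k) (Finset.mem_filter.mp he).2⟩) (hrep (k + 1) v)).trans
                (reach_symm (hrep k v))
            obtain ⟨d, hd⟩ := hdvd k _ _ h1
            refine ⟨d, ?_⟩
            simp only [Pi.smul_apply, Pi.sub_apply, smul_eq_mul]
            rw [show c (k + 1) v - c k v = _ from hd]
            push_cast; ring
          · have h1 := hedge (k + 1) e he
            have h2 := hedge k e fun h => he (h.trans (Nat.mul_dvd_mul_right (Nat.pow_dvd_pow p k.le_succ) M))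
            simp only [Pi.smul_apply, Pi.sub_apply]
            rw [hconst _ _ _ h1, hconst _ _ _ h2]
        have := add_mem (ih (by omega)) (Submodule.subset_span hdiff)
        rwa [← smul_add, add_sub_cancel] at this
    have := hall K le_rfl
    rwa [hcK] at this
  have htop : I = ⊤ := by
    by_contra hne
    obtain ⟨P, hP, hle⟩ := Ideal.exists_le_maximal I hne
    obtain ⟨q, hq⟩ := Submodule.IsPrincipal.principal P
    have hq' : P = Ideal.span {q} := hq
    have hP0 : q ≠ 0 := by
      rintro rfl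
      have h1 := hle hNI
      rw [hq', Ideal.span_singleton_eq_bot.mpr rfl, Ideal.mem_bot] at h1
      exact absurd (by exact_mod_cast h1) hN0.ne'
    have hqp : Prime q := (Ideal.span_singleton_prime hP0).mp (hq' ▸ hP.isPrime)
    have hp : q.natAbs.Prime := Int.prime_iff_natAbs_prime.mp hqp
    have h1 := hle (key _ hp)
    rw [hq', Ideal.mem_span_singleton, ← Int.natAbs_dvd, Int.natCast_dvd_natCast] at h1
    exact Nat.not_dvd_ordCompl hp hN0.ne' h1
  have h1 : (1 : ℤ) ∈ I := htop ▸ Submodule.mem_top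
  simpa using (show (1 : ℤ) • f ∈ Submodule.span ℤ G from h1)

/-! ### Circuit-coprime labels -/

theorem exists_congr_potential (hcc : LabGraph.IsCircuitCoprime ends l) (x : E → ℤ) :
    ∀ S : Finset E, ∃ φ : V → ℤ, ∀ e ∈ S, (l e : ℤ) ∣ x e - (φ (ends e).2 - φ (ends e).1) := by
  classical
  intro S
  induction S using Finset.induction with
  | empty => exact ⟨0, by simp⟩
  | @insert e₀ S he₀ ih =>
    obtain ⟨φ, hφ⟩ := ih
    let D : Ideal ℤ :=
      { carrier := {d : ℤ | ∃ ψ : V → ℤ, (∀ e ∈ S, (l e : ℤ) ∣ ψ (ends e).2 - ψ (ends e).1) ∧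
          (l e₀ : ℤ) ∣ d - (ψ (ends e₀).2 - ψ (ends e₀).1)}
        add_mem' := fun {a b} ⟨ψ, h1, h2⟩ ⟨ψ', h1', h2'⟩ => ⟨ψ + ψ', fun e he => by
          have := dvd_add (h1 e he) (h1' e he)
          simpa [add_sub_add_comm] using this, by
          have := dvd_add h2 h2'
          simp only [Pi.add_apply]
          exact dvd_trans this (dvd_of_eq (by ring))⟩
        zero_mem' := ⟨0, fun e _ => by simp, by simp⟩
        smul_mem' := fun c a ⟨ψ, h1, h2⟩ => ⟨c • ψ, fun e he => by
          simpa [mul_sub] using (h1 e he).mul_left c, by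
          simpa [mul_sub] using h2.mul_left c⟩ }
    have hlD : (l e₀ : ℤ) ∈ D := ⟨0, fun e _ => by simp, by simp⟩
    have htop : D = ⊤ := by
      by_contra hne
      obtain ⟨P, hP, hle⟩ := Ideal.exists_le_maximal D hne
      have hPprime := hP.isPrime
      let T := S.filter fun e => (l e : ℤ) ∈ P
      by_cases hr : Reach ends T (ends e₀).1 (ends e₀).2
      · have he₀T : e₀ ∉ T := fun h => he₀ (Finset.mem_of_mem_filter e₀ h)
        obtain ⟨C, hC, -, hcirc⟩ := exists_circuit_of_reach (T := insert e₀ T) (Finset.mem_insert_self e₀ T)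
          (by rwa [Finset.erase_insert he₀T])
        obtain ⟨q, hq⟩ := Submodule.IsPrincipal.principal P
        have hq' : P = Ideal.span {q} := hq
        have hdvd : ∀ e ∈ C, q.natAbs ∣ l e := fun e he => by
          have : (l e : ℤ) ∈ P := by
            rcases Finset.mem_insert.mp (hC he) with rfl | h
            · exact hle hlD
            · exact (Finset.mem_filter.mp h).2
          rw [hq', Ideal.mem_span_singleton, ← Int.natAbs_dvd, Int.natCast_dvd_natCast] at this
          exact this
        have h1 : q.natAbs ∣ 1 := hcc C hcirc ▸ Finset.dvd_gcd hdvd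
        refine hP.ne_top ?_
        rw [hq', Ideal.span_singleton_eq_top, Int.isUnit_iff_natAbs_eq]
        exact Nat.dvd_one.mp h1
      · let s := (univ : Finset V).filter fun v => Reach ends T (ends e₀).1 v
        have hmem : ∀ v, v ∈ s ↔ Reach ends T (ends e₀).1 v := fun v => by simp [s]
        let M : ℤ := ∏ e ∈ S.filter (fun e => (l e : ℤ) ∉ P), (l e : ℤ)
        have hM : M ∉ P := fun h => by
          obtain ⟨e, he, h'⟩ := (Ideal.IsPrime.prod_mem_iff (p := P)).mp h
          exact (Finset.mem_filter.mp he).2 h'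
        refine hM (hle ⟨fun v => if v ∈ s then 0 else M, fun e he => ?_, ?_⟩)
        · by_cases hp : (l e : ℤ) ∈ P
          · have heT : e ∈ T := Finset.mem_filter.mpr ⟨he, hp⟩
            have : (ends e).1 ∈ s ↔ (ends e).2 ∈ s := by
              rw [hmem, hmem]
              exact ⟨fun h => h.tail ⟨e, heT, Or.inl rfl⟩, fun h => h.tail ⟨e, heT, Or.inr rfl⟩⟩
            simp only [this, sub_self, dvd_zero]
          · have hMd : (l e : ℤ) ∣ M :=
              Finset.dvd_prod_of_mem (fun e => (l e : ℤ)) (Finset.mem_filter.mpr ⟨he, hp⟩)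
            simp only
            split_ifs <;> simp [hMd]
        · simp only
          rw [if_pos ((hmem _).mpr .refl), if_neg (fun h => hr ((hmem _).mp h))]
          simp
    obtain ⟨ψ, hψ1, hψ2⟩ : x e₀ - (φ (ends e₀).2 - φ (ends e₀).1) ∈ D := htop ▸ Submodule.mem_top
    refine ⟨φ + ψ, fun e he => ?_⟩
    rcases Finset.mem_insert.mp he with rfl | he
    · simp only [Pi.add_apply]; exact dvd_trans hψ2 (dvd_of_eq (by ring))
    · simp only [Pi.add_apply]; exact dvd_trans (dvd_sub (hφ e he) (hψ1 e he)) (dvd_of_eq (by ring))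

theorem isCircuitCoprime_iff_potential :
    LabGraph.IsCircuitCoprime ends l ↔
      ∀ x : E → ℤ, ∃ φ : V → ℤ, ∀ e, (l e : ℤ) ∣ x e - (φ (ends e).2 - φ (ends e).1) := by
  refine ⟨fun h x => ?_, fun h C hC => ?_⟩
  · obtain ⟨φ, hφ⟩ := exists_congr_potential h x univ
    exact ⟨φ, fun e => hφ e (Finset.mem_univ e)⟩
  · obtain ⟨e, he⟩ := hC.1
    obtain ⟨c, hc1, hcC, hc0⟩ := exists_cycle_vec hC.2.1 he
    obtain ⟨φ, hφ⟩ := h (Pi.single e 1)
    have h2 := sum_mul_boundary (ends := ends) φ c
    simp only [hc0, mul_zero, Finset.sum_const_zero] at h2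
    have h3 : ((C.gcd l : ℕ) : ℤ) ∣ ∑ e', c e' * ((Pi.single e (1 : ℤ) : E → ℤ) e' - (φ (ends e').2 - φ (ends e').1)) := by
      refine Finset.dvd_sum fun e' _ => ?_
      by_cases he' : e' ∈ C
      · exact Dvd.dvd.mul_left ((Int.natCast_dvd_natCast.mpr (Finset.gcd_dvd he')).trans (hφ e')) _
      · simp [hcC e' he']
    simp only [mul_sub, Finset.sum_sub_distrib] at h3
    have h4 : ∑ e', c e' * (Pi.single e (1 : ℤ) : E → ℤ) e' = 1 := by simp [Pi.single_apply, hc1]
    have h5 : ∑ e', (c e' * φ (ends e').2) - ∑ e', c e' * φ (ends e').1 = 0 := by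
      rw [← Finset.sum_sub_distrib]
      simpa [mul_sub] using h2.symm
    rw [h4, h5, sub_zero] at h3
    exact Nat.dvd_one.mp (by exact_mod_cast h3)

theorem isCircuitCoprime_iff_orthogonal (hconn : LabGraph.Connected ends) :
    LabGraph.IsCircuitCoprime ends l ↔
      ∀ x : E → ℤ, ∃ y : E → ℤ, ∀ γ : E → ℤ, (∀ v : V, LabGraph.boundary ends γ v = 0) →
        ∑ e : E, γ e * (x e - (l e : ℤ) * y e) = 0 := by
  rw [isCircuitCoprime_iff_potential]
  refine forall_congr' fun x => ⟨fun ⟨φ, hφ⟩ => ?_, fun ⟨y, hy⟩ => ?_⟩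
  · choose y hy using hφ
    refine ⟨y, fun γ hγ => ?_⟩
    have h2 := sum_mul_boundary (ends := ends) φ γ
    simp only [hγ, mul_zero, Finset.sum_const_zero] at h2
    rw [h2]
    exact Finset.sum_congr rfl fun e _ => by rw [← hy e]; ring
  · obtain ⟨φ, hφ⟩ := exists_potential hconn _ hy
    exact ⟨φ, fun e => ⟨y e, by rw [hφ e]; ring⟩⟩

/-! ### Spanning trees avoiding an edge -/

theorem mem_circuit_iff (hG : LabGraph.Connected ends) (v : V) :
    (∃ C : Finset E, LabGraph.IsCircuit ends C ∧ LabGraph.endCount ends C v ≠ 0) ↔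
      ∃ T : Finset E, (Nonempty V ∧ ∀ x y, Reach ends T x y) ∧ (∀ C ⊆ T, ¬ LabGraph.IsCircuit ends C) ∧
        ∃ e : E, e ∉ T ∧ ((ends e).1 = v ∨ (ends e).2 = v) := by
  classical
  constructor
  · rintro ⟨C, hC, hv⟩
    obtain ⟨e, he, hev⟩ : ∃ e ∈ C, (ends e).1 = v ∨ (ends e).2 = v := by
      by_contra h
      push Not at h
      exact hv (Finset.sum_eq_zero fun e he => by simp [h e he])
    have hconnE : ∀ x y, Reach ends (univ.erase e) x y := fun x y =>
      reach_erase_circuit hC.2.1 (Finset.subset_univ C) he (reach_univ hG x y)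
    obtain ⟨T, hT, hmin⟩ := Finset.exists_min_image
      ((univ.erase e).powerset.filter fun T => ∀ x y, Reach ends T x y) Finset.card
      ⟨univ.erase e, Finset.mem_filter.mpr ⟨Finset.mem_powerset.mpr subset_rfl, hconnE⟩⟩
    obtain ⟨hTsub, hTc⟩ := Finset.mem_filter.mp hT
    rw [Finset.mem_powerset] at hTsub
    refine ⟨T, ⟨hG.1, hTc⟩, fun C' hC' hcirc => ?_, e, fun h => Finset.notMem_erase e univ (hTsub h), hev⟩
    obtain ⟨e', he'⟩ := hcirc.1
    have := hmin (T.erase e') (Finset.mem_filter.mpr ⟨Finset.mem_powerset.mpr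
      ((Finset.erase_subset e' T).trans hTsub),
      fun x y => reach_erase_circuit hcirc.2.1 hC' he' (hTc x y)⟩)
    rw [Finset.card_erase_of_mem (hC' he')] at this
    have := Finset.card_pos.mpr ⟨e', hC' he'⟩
    omega
  · rintro ⟨T, ⟨-, hTc⟩, -, e, heT, hev⟩
    obtain ⟨C, -, heC, hcirc⟩ := exists_circuit_of_reach (T := insert e T) (Finset.mem_insert_self e T)
      (by rw [Finset.erase_insert heT]; exact hTc _ _)
    refine ⟨C, hcirc, fun h => ?_⟩
    have := (Finset.sum_eq_zero_iff.mp h) e heC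
    rcases hev with h' | h' <;> simp [h'] at this

end Groth.Agent.LabGraph6
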