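import Groth.Agent.LabGraph6.Contract

/-!
# Connecting chains
-/

universe u

open Finset

namespace Groth.Agent.LabGraph6

variable {V E : Type u} [Fintype V] [Fintype E] [DecidableEq V] [DecidableEq E]
variable {ends : E → V × V} {β : V → ℤ} {m : ℕ} {f : Fin (m + 1) → V} {e : Fin m → E}

/-- The chain vertex with index `j` (clamped). -/
def cv (f : Fin (m + 1) → V) (j : ℕ) : V := f ⟨min j m, by omega⟩

theorem cv_of_le {j : ℕ} (h : j ≤ m) : cv f j = f ⟨j, by omega⟩ := by
  simp [cv, Nat.min_eq_left h]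

theorem cv_coe (i : Fin (m + 1)) : cv f i = f i := cv_of_le (Nat.lt_succ_iff.mp i.2)

theorem cv_injOn (hC : LabGraph.IsChain ends f e) {i j : ℕ} (hi : i ≤ m) (hj : j ≤ m)
    (h : cv f i = cv f j) : i = j := by
  rw [cv_of_le hi, cv_of_le hj] at h
  exact congrArg Fin.val (hC.1 h)

theorem ends_e (hC : LabGraph.IsChain ends f e) (i : Fin m) :
    ends (e i) = (cv f i, cv f (i + 1)) ∨ ends (e i) = (cv f (i + 1), cv f i) := by
  have h1 : cv f i = f i.castSucc := cv_coe i.castSucc
  have h2 : cv f (i + 1) = f i.succ := cv_coe i.succ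
  rw [h1, h2]
  exact hC.2.2 i

theorem exists_side (hC : LabGraph.IsChain ends f e) (hconn : ∀ i, LabGraph.IsConnecting ends (e i))
    (i : Fin m) : ∃ S : Finset V, cv f i ∈ S ∧ cv f (i + 1) ∉ S ∧
      ∀ e', e' ≠ e i → ((ends e').1 ∈ S ↔ (ends e').2 ∈ S) := by
  obtain ⟨S, hS⟩ := hconn i
  have hnc : ∀ e', e' ≠ e i → ((ends e').1 ∈ S ↔ (ends e').2 ∈ S) := by
    intro e' he'
    have h := mt (hS e').mp he'
    tauto
  have hcr := (hS (e i)).mpr rfl
  by_cases hc : cv f i ∈ S
  · refine ⟨S, hc, ?_, hnc⟩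
    rcases ends_e hC i with h | h <;> rw [h] at hcr <;> simp only at hcr <;> tauto
  · refine ⟨Sᶜ, Finset.mem_compl.mpr hc, ?_, fun e' he' => by simp [hnc e' he']⟩
    rw [Finset.mem_compl, not_not]
    rcases ends_e hC i with h | h <;> rw [h] at hcr <;> simp only at hcr <;> tauto

theorem mem_side_iff (hC : LabGraph.IsChain ends f e) {i : Fin m} {S : Finset V}
    (h0 : cv f i ∈ S) (h1 : cv f (i + 1) ∉ S)
    (hnc : ∀ e', e' ≠ e i → ((ends e').1 ∈ S ↔ (ends e').2 ∈ S)) {j : ℕ} (hj : j ≤ m) :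
    cv f j ∈ S ↔ j ≤ i := by
  have step : ∀ k (hk : k < m), k ≠ i → (cv f k ∈ S ↔ cv f (k + 1) ∈ S) := by
    intro k hk hki
    have hne : e ⟨k, hk⟩ ≠ e i := fun h => hki (congrArg Fin.val (hC.2.1 h))
    rcases ends_e hC ⟨k, hk⟩ with h | h <;> have := hnc _ hne <;> rw [h] at this <;>
      simp only at this <;> tauto
  have up : ∀ k, (i : ℕ) + 1 + k ≤ m → cv f (i + 1 + k) ∉ S := by
    intro k
    induction k with
    | zero => intro _; exact h1
    | succ k ih => intro hk; exact mt (step (i + 1 + k) (by omega) (by omega)).mpr (ih (by omega))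
  have down : ∀ k ≤ (i : ℕ), cv f (i - k) ∈ S := by
    intro k
    induction k with
    | zero => intro _; exact h0
    | succ k ih =>
      intro hk
      refine (step (i - (k + 1)) (by omega) (by omega)).mpr ?_
      rw [show (i : ℕ) - (k + 1) + 1 = i - k by omega]
      exact ih (by omega)
  constructor
  · intro hjS
    by_contra hle
    have := up (j - (i + 1)) (by omega)
    rw [show (i : ℕ) + 1 + (j - (i + 1)) = j by omega] at this
    exact this hjS
  · intro hle
    have := down (i - j) (by omega)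
    rwa [show (i : ℕ) - (i - j) = j by omega] at this

theorem chord (hC : LabGraph.IsChain ends f e) (hconn : ∀ i, LabGraph.IsConnecting ends (e i))
    {e' : E} (he' : e' ∉ univ.image e) {a b : ℕ} (ha : a ≤ m) (hb : b ≤ m)
    (h1 : (ends e').1 = cv f a) (h2 : (ends e').2 = cv f b) : a = b := by
  by_contra hab
  let i : Fin m := ⟨min a b, by omega⟩
  obtain ⟨S, h0, hS1, hnc⟩ := exists_side hC hconn i
  have hne : e' ≠ e i := fun h => he' (h ▸ Finset.mem_image_of_mem e (Finset.mem_univ i))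
  have := hnc e' hne
  rw [h1, h2, mem_side_iff hC h0 hS1 hnc ha, mem_side_iff hC h0 hS1 hnc hb] at this
  simp only [i] at this
  omega

theorem ctrMk_eq_iff (hC : LabGraph.IsChain ends f e) (u v : V) :
    DualGr.ctrMk ends (univ.image e) u = DualGr.ctrMk ends (univ.image e) v ↔
      u = v ∨ ((∃ i ≤ m, u = cv f i) ∧ ∃ j ≤ m, v = cv f j) := by
  constructor
  · intro h
    have h' : Relation.EqvGen (DualGr.CtrRel ends (univ.image e)) u v := Quotient.exact h
    induction h' with
    | rel x y hxy =>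
      obtain ⟨e', he', hxy⟩ := hxy
      obtain ⟨i, -, rfl⟩ := Finset.mem_image.mp he'
      rcases ends_e hC i with h | h <;> rw [h] at hxy <;> obtain ⟨rfl, rfl⟩ := Prod.mk.injEq .. ▸ hxy
      · exact Or.inr ⟨⟨i, by omega, rfl⟩, ⟨i + 1, by omega, rfl⟩⟩
      · exact Or.inr ⟨⟨i + 1, by omega, rfl⟩, ⟨i, by omega, rfl⟩⟩
    | refl x => exact Or.inl rfl
    | symm x y hxy ih =>
      rcases ih (Quotient.sound hxy) with rfl | ⟨hx, hy⟩
      · exact Or.inl rfl
      · exact Or.inr ⟨hy, hx⟩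
    | trans x y z hxy hyz ih1 ih2 =>
      rcases ih1 (Quotient.sound hxy) with rfl | ⟨hx, hy⟩
      · exact ih2 (Quotient.sound hyz)
      · rcases ih2 (Quotient.sound hyz) with rfl | ⟨-, hz⟩
        · exact Or.inr ⟨hx, hy⟩
        · exact Or.inr ⟨hx, hz⟩
  · rintro (rfl | ⟨⟨i, hi, rfl⟩, ⟨j, hj, rfl⟩⟩)
    · rfl
    have key : ∀ k ≤ m, DualGr.ctrMk ends (univ.image e) (cv f k) =
        DualGr.ctrMk ends (univ.image e) (cv f 0) := by
      intro k
      induction k with
      | zero => intro _; rfl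
      | succ k ih =>
        intro hk
        rw [← ih (by omega)]
        have := DualGr.ctrMk_fst_eq_ctrMk_snd ends (univ.image e)
          (Finset.mem_image_of_mem e (Finset.mem_univ (⟨k, hk⟩ : Fin m)))
        rcases ends_e hC ⟨k, hk⟩ with h | h <;> rw [h] at this
        · exact this.symm
        · exact this
    rw [key i hi, key j hj]

theorem constOn (hC : LabGraph.IsChain ends f e) (hconst : ∀ i j, β (f i) = β (f j)) :
    ConstOn ends β (univ.image e) := by
  intro u v h
  rcases (ctrMk_eq_iff hC u v).mp h with rfl | ⟨⟨i, -, rfl⟩, ⟨j, -, rfl⟩⟩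
  · rfl
  · exact hconst _ _

theorem beta_cv (hβm : ∀ i, β (f i) = m) (j : ℕ) : β (cv f j) = m := hβm _

theorem one_le (hβ : LabGraph.IsMultFn ends β) (hβm : ∀ i, β (f i) = m) : 1 ≤ m := by
  have := (hβ (f 0)).1
  rw [hβm] at this
  omega

/-- The neighbour sum over edges outside the chain. -/
def offSum (ends : E → V × V) (e : Fin m → E) (g : V → ℤ) (v : V) : ℤ :=
  ∑ x ∈ (univ.image e)ᶜ, eterm ends x g v

theorem nb_split (hC : LabGraph.IsChain ends f e) (g : V → ℤ) (v : V) :
    nb ends g v = (∑ i : Fin m, eterm ends (e i) g v) + offSum ends e g v := by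
  rw [nb, offSum, ← Finset.sum_add_sum_compl (univ.image e),
    Finset.sum_image hC.2.1.injOn]

theorem eterm_chain (hC : LabGraph.IsChain ends f e) (g : V → ℤ) (i : Fin m) (v : V) :
    eterm ends (e i) g v =
      (if cv f i = v then g (cv f (i + 1)) else 0) + (if cv f (i + 1) = v then g (cv f i) else 0) := by
  have hne : cv f i ≠ cv f (i + 1) := fun h => by
    have := cv_injOn hC i.2.le i.2 h; omega
  rcases ends_e hC i with h | h <;> simp only [eterm, h]
  · by_cases h1 : cv f i = v <;> by_cases h2 : cv f (i + 1) = v <;>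
      first | exact absurd (h1.trans h2.symm) hne | simp [h1, h2]
  · by_cases h1 : cv f i = v <;> by_cases h2 : cv f (i + 1) = v <;>
      first | exact absurd (h1.trans h2.symm) hne | simp [h1, h2]

theorem sum_chain_off (hC : LabGraph.IsChain ends f e) (g : V → ℤ) {v : V}
    (hv : ∀ j ≤ m, v ≠ cv f j) : ∑ i : Fin m, eterm ends (e i) g v = 0 := by
  refine Finset.sum_eq_zero fun i _ => ?_
  rw [eterm_chain hC g i v, if_neg (hv i i.2.le).symm, if_neg (hv (i + 1) i.2).symm, add_zero]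

theorem nb_cv (hC : LabGraph.IsChain ends f e) (g : V → ℤ) {j : ℕ} (hj : j ≤ m) :
    nb ends g (cv f j) = (if j < m then g (cv f (j + 1)) else 0) +
      (if 0 < j then g (cv f (j - 1)) else 0) + offSum ends e g (cv f j) := by
  rw [nb_split hC, add_left_inj]
  simp only [eterm_chain hC g]
  rw [Finset.sum_add_distrib]
  congr 1
  · by_cases hjm : j < m
    · rw [if_pos hjm, Finset.sum_eq_single ⟨j, hjm⟩]
      · simp
      · intro i _ hi
        exact if_neg fun h => hi (Fin.ext (cv_injOn hC i.2.le hj h))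
      · simp
    · rw [if_neg hjm]
      refine Finset.sum_eq_zero fun i _ => if_neg fun h => ?_
      have := cv_injOn hC i.2.le hj h; omega
  · by_cases hj0 : 0 < j
    · rw [if_pos hj0, Finset.sum_eq_single ⟨j - 1, by omega⟩]
      · rw [if_pos]
        simp only [show j - 1 + 1 = j by omega]
      · intro i _ hi
        refine if_neg fun h => hi (Fin.ext ?_)
        have := cv_injOn hC i.2 hj h
        simp only; omega
      · simp
    · rw [if_neg hj0]
      refine Finset.sum_eq_zero fun i _ => if_neg fun h => ?_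
      have := cv_injOn hC i.2 hj h; omega

theorem self_cv (hα : ∀ i, LabGraph.mfMatrix ends β (f i) (f i) = -2) (j : ℕ) :
    LabGraph.mfMatrix ends β (cv f j) (cv f j) = -2 := hα _

theorem nb_beta_cv (hβ : LabGraph.IsMultFn ends β) (hβm : ∀ i, β (f i) = m)
    (hα : ∀ i, LabGraph.mfMatrix ends β (f i) (f i) = -2) (j : ℕ) :
    nb ends β (cv f j) = 2 * m := by
  have h := self_mul_beta hβ (cv f j)
  rw [self_cv hα, beta_cv hβm] at h
  linarith

theorem offSum_interior (hβ : LabGraph.IsMultFn ends β) (hC : LabGraph.IsChain ends f e)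
    (hβm : ∀ i, β (f i) = m) (hα : ∀ i, LabGraph.mfMatrix ends β (f i) (f i) = -2)
    {j : ℕ} (h0 : 0 < j) (h1 : j < m) (g : V → ℤ) : offSum ends e g (cv f j) = 0 := by
  have h := nb_cv hC β h1.le
  rw [nb_beta_cv hβ hβm hα, if_pos h0, if_pos h1, beta_cv hβm, beta_cv hβm] at h
  have h2 : offSum ends e β (cv f j) = 0 := by linarith
  have h3 := (Finset.sum_eq_zero_iff_of_nonneg fun x _ =>
    eterm_nonneg (fun v => (beta_pos hβ v).le) x (cv f j)).mp h2
  refine Finset.sum_eq_zero fun x hx => ?_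
  have h4 := h3 x hx
  unfold eterm at h4 ⊢
  have hp1 := beta_pos hβ (ends x).1
  have hp2 := beta_pos hβ (ends x).2
  split_ifs at h4 ⊢ <;> omega

theorem no_edge_interior (hβ : LabGraph.IsMultFn ends β) (hC : LabGraph.IsChain ends f e)
    (hβm : ∀ i, β (f i) = m) (hα : ∀ i, LabGraph.mfMatrix ends β (f i) (f i) = -2)
    {j : ℕ} (h0 : 0 < j) (h1 : j < m) {x : E} (hx : x ∉ univ.image e) :
    ((ends x).1 = cv f j → (ends x).2 = cv f j) ∧ ((ends x).2 = cv f j → (ends x).1 = cv f j) := by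
  have h2 := offSum_interior hβ hC hβm hα h0 h1 β
  have h4 := (Finset.sum_eq_zero_iff_of_nonneg fun x _ =>
    eterm_nonneg (fun v => (beta_pos hβ v).le) x (cv f j)).mp h2 x (Finset.mem_compl.mpr hx)
  unfold eterm at h4
  have hp1 := beta_pos hβ (ends x).1
  have hp2 := beta_pos hβ (ends x).2
  constructor <;> intro he <;> by_contra hne <;> split_ifs at h4 <;> first | omega | tauto

theorem offSum_last (hβ : LabGraph.IsMultFn ends β) (hC : LabGraph.IsChain ends f e)
    (hβm : ∀ i, β (f i) = m) (hα : ∀ i, LabGraph.mfMatrix ends β (f i) (f i) = -2) :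
    offSum ends e β (cv f m) = m := by
  have h := nb_cv hC β (le_refl m)
  rw [nb_beta_cv hβ hβm hα, if_pos (show 0 < m from one_le hβ hβm), if_neg (lt_irrefl m), beta_cv hβm] at h
  linarith

/-- The vector whose image is `δ (f 0) - δ (f m)`. -/
def shiftVec (f : Fin (m + 1) → V) (β : V → ℤ) (S : Finset V) (v : V) : ℤ :=
  if ∃ i : Fin (m + 1), f i = v then ∑ i : Fin (m + 1), (if f i = v then (i : ℤ) else 0)
  else if v ∈ S then 0 else β v

theorem shiftVec_cv (hC : LabGraph.IsChain ends f e) (S : Finset V) {j : ℕ} (hj : j ≤ m) :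
    shiftVec f β S (cv f j) = j := by
  rw [shiftVec, if_pos ⟨⟨j, by omega⟩, (cv_of_le hj).symm⟩, cv_of_le hj,
    Finset.sum_eq_single ⟨j, by omega⟩]
  · simp
  · intro i _ hi; exact if_neg fun h => hi (hC.1 h)
  · simp

theorem shiftVec_off {v : V} (hv : ∀ j ≤ m, v ≠ cv f j) (S : Finset V) :
    shiftVec f β S v = if v ∈ S then 0 else β v := by
  refine if_neg ?_
  rintro ⟨i, hi⟩
  exact hv i (Nat.lt_succ_iff.mp i.2) (by rw [cv_coe, hi])

theorem exists_shift (hβ : LabGraph.IsMultFn ends β) (hC : LabGraph.IsChain ends f e)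
    (hconn : ∀ i, LabGraph.IsConnecting ends (e i)) (hβm : ∀ i, β (f i) = m)
    (hα : ∀ i, LabGraph.mfMatrix ends β (f i) (f i) = -2) :
    ∃ W : V → ℤ, (∀ j ≤ m, W (cv f j) = j) ∧
      Matrix.mulVec (LabGraph.mfMatrix ends β) W = Pi.single (cv f 0) 1 - Pi.single (cv f m) 1 := by
  have hm := one_le hβ hβm
  obtain ⟨S, hS0, hS1, hnc⟩ := exists_side hC hconn ⟨m - 1, by omega⟩
  have hmem : ∀ j ≤ m, (cv f j ∈ S ↔ j < m) := fun j hj => by
    rw [mem_side_iff hC hS0 hS1 hnc hj]; simp only; omega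
  have hside : ∀ x, x ∉ univ.image e → ((ends x).1 ∈ S ↔ (ends x).2 ∈ S) := fun x hx =>
    hnc x fun h => hx (h ▸ Finset.mem_image_of_mem e (Finset.mem_univ _))
  refine ⟨shiftVec f β S, fun j hj => shiftVec_cv hC S hj, ?_⟩
  set W := shiftVec f β S
  have hW : ∀ j ≤ m, W (cv f j) = j := fun j hj => shiftVec_cv hC S hj
  -- at a non-chain end of an edge outside the chain
  have hnbr : ∀ x, x ∉ univ.image e → ∀ (p q : V),
      ((ends x).1 = p ∧ (ends x).2 = q ∨ (ends x).2 = p ∧ (ends x).1 = q) → q ≠ p →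
      (p ∈ S → W q = 0) ∧ (p ∉ S → W q = β q) := by
    intro x hx p q hpq hne
    have hiff : p ∈ S ↔ q ∈ S := by
      rcases hpq with ⟨h1, h2⟩ | ⟨h1, h2⟩ <;> have := hside x hx <;> rw [h1, h2] at this <;> tauto
    by_cases hq : ∃ j ≤ m, q = cv f j
    · obtain ⟨j, hj, rfl⟩ := hq
      have hj' : j = 0 ∨ j = m := by
        by_contra hcon
        have := no_edge_interior hβ hC hβm hα (j := j) (by omega) (by omega) hx
        rcases hpq with ⟨h1, h2⟩ | ⟨h1, h2⟩
        · exact hne ((h1.symm.trans (this.2 h2)).symm)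
        · exact hne ((h1.symm.trans (this.1 h2)).symm)
      constructor
      · intro hp
        have := (hmem j hj).mp (hiff.mp hp)
        rw [show j = 0 by omega]
        simpa using shiftVec_cv (β := β) hC S (Nat.zero_le m)
      · intro hp
        have := mt (hmem j hj).mpr (mt hiff.mpr hp)
        have hjm : j = m := by omega
        subst hjm
        rw [beta_cv hβm]
        exact shiftVec_cv hC S le_rfl
    · push Not at hq
      simp only [W, shiftVec_off hq]
      constructor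
      · intro hp; rw [if_pos (hiff.mp hp)]
      · intro hp; rw [if_neg (mt hiff.mpr hp)]
  have hoff0 : ∀ p, p ∈ S → offSum ends e W p = 0 := by
    intro p hp
    refine Finset.sum_eq_zero fun x hx => ?_
    rw [Finset.mem_compl] at hx
    unfold eterm
    split_ifs with h1 h2 h2
    · rw [(hnbr x hx p _ (Or.inl ⟨h1.1, rfl⟩) h1.2).1 hp, (hnbr x hx p _ (Or.inr ⟨h2.1, rfl⟩) h2.2).1 hp, add_zero]
    · rw [(hnbr x hx p _ (Or.inl ⟨h1.1, rfl⟩) h1.2).1 hp, add_zero]
    · rw [(hnbr x hx p _ (Or.inr ⟨h2.1, rfl⟩) h2.2).1 hp, add_zero]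
    · rfl
  have hoff1 : ∀ p, p ∉ S → offSum ends e W p = offSum ends e β p := by
    intro p hp
    refine Finset.sum_congr rfl fun x hx => ?_
    rw [Finset.mem_compl] at hx
    unfold eterm
    split_ifs with h1 h2 h2
    · rw [(hnbr x hx p _ (Or.inl ⟨h1.1, rfl⟩) h1.2).2 hp, (hnbr x hx p _ (Or.inr ⟨h2.1, rfl⟩) h2.2).2 hp]
    · rw [(hnbr x hx p _ (Or.inl ⟨h1.1, rfl⟩) h1.2).2 hp]
    · rw [(hnbr x hx p _ (Or.inr ⟨h2.1, rfl⟩) h2.2).2 hp]
    · rfl
  funext v
  rw [mulVec_apply, Pi.sub_apply]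
  by_cases hv : ∃ j ≤ m, v = cv f j
  · obtain ⟨j, hj, rfl⟩ := hv
    rw [self_cv hα, nb_cv hC W hj, hW j hj]
    have hsingle : ∀ k ≤ m, (Pi.single (cv f k) (1 : ℤ) : V → ℤ) (cv f j) = if j = k then 1 else 0 := by
      intro k hk
      rw [Pi.single_apply]
      exact if_congr ⟨fun h => cv_injOn hC hj hk h, fun h => by rw [h]⟩ rfl rfl
    rw [hsingle 0 (Nat.zero_le m), hsingle m le_rfl]
    by_cases h0 : j = 0
    · subst h0
      rw [if_pos (show 0 < m by omega), if_neg (lt_irrefl 0), hW _ (show 0 + 1 ≤ m by omega),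
        hoff0 _ ((hmem 0 (Nat.zero_le m)).mpr (by omega)), if_pos rfl, if_neg (by omega)]
      simp
    by_cases hjm : j = m
    · subst hjm
      rw [if_neg (lt_irrefl _), if_pos (show 0 < j by omega), hW _ (show j - 1 ≤ j by omega),
        hoff1 _ (fun h => lt_irrefl _ ((hmem j le_rfl).mp h)), offSum_last hβ hC hβm hα, if_neg h0,
        if_pos rfl, Nat.cast_sub (show 1 ≤ j by omega)]
      push_cast; ring
    · rw [if_pos (show j < m by omega), if_pos (show 0 < j by omega),
        hW _ (show j + 1 ≤ m by omega), hW _ (show j - 1 ≤ m by omega),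
        offSum_interior hβ hC hβm hα (by omega) (by omega) W, if_neg h0, if_neg hjm,
        Nat.cast_sub (show 1 ≤ j by omega)]
      push_cast; ring
  · push Not at hv
    rw [Pi.single_apply, Pi.single_apply, if_neg (hv 0 (Nat.zero_le m)), if_neg (hv m le_rfl), sub_zero,
      nb_split hC, sum_chain_off hC W hv, zero_add]
    have hb := self_mul_beta hβ v
    rw [nb_split hC, sum_chain_off hC β hv, zero_add] at hb
    simp only [W, shiftVec_off hv]
    by_cases hp : v ∈ S
    · rw [if_pos hp, hoff0 v hp, mul_zero, add_zero]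
    · rw [if_neg hp, hoff1 v hp, hb]; ring

theorem liftAt_cv (hC : LabGraph.IsChain ends f e) (x : DualGr.CtrVert ends (univ.image e) → ℤ)
    {j : ℕ} (h0 : 0 < j) (hj : j ≤ m) :
    LabGraph.liftAt ends (univ.image e) (f 0) x (cv f j) = 0 := by
  refine if_pos ⟨?_, ?_⟩
  · exact (ctrMk_eq_iff hC _ _).mpr (Or.inr ⟨⟨j, hj, rfl⟩, ⟨0, Nat.zero_le m, (cv_of_le (Nat.zero_le m)).symm⟩⟩)
  · intro h
    have := cv_injOn hC hj (Nat.zero_le m) (h.trans (cv_of_le (Nat.zero_le m)).symm)
    omega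

theorem liftAt_off {v : V} (hC : LabGraph.IsChain ends f e)
    (x : DualGr.CtrVert ends (univ.image e) → ℤ) (hv : ∀ j, 0 < j → j ≤ m → v ≠ cv f j) :
    LabGraph.liftAt ends (univ.image e) (f 0) x v = x (DualGr.ctrMk ends (univ.image e) v) := by
  refine if_neg ?_
  rintro ⟨h1, h2⟩
  rcases (ctrMk_eq_iff hC _ _).mp h1 with rfl | ⟨⟨j, hj, rfl⟩, -⟩
  · exact h2 rfl
  · refine hv j ?_ hj rfl
    by_contra hj0
    exact h2 (by rw [show j = 0 by omega]; exact cv_of_le (Nat.zero_le m))

theorem pushV_liftAt (hC : LabGraph.IsChain ends f e)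
    (x : DualGr.CtrVert ends (univ.image e) → ℤ) :
    DualGr.pushV ends (univ.image e) (LabGraph.liftAt ends (univ.image e) (f 0) x) = x := by
  funext c
  obtain ⟨u, rfl⟩ := DualGr.ctrMk_surjective ends (univ.image e) c
  rw [pushV_apply]
  by_cases hu : ∃ j ≤ m, u = cv f j
  · obtain ⟨j, hj, rfl⟩ := hu
    rw [Finset.sum_eq_single (cv f 0)]
    · rw [liftAt_off hC x fun k hk hkm h => by
        have := cv_injOn hC (Nat.zero_le m) hkm h; omega]
      exact congrArg x ((ctrMk_eq_iff hC _ _).mpr (Or.inr ⟨⟨0, Nat.zero_le m, rfl⟩, ⟨j, hj, rfl⟩⟩))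
    · intro v hv hne
      rcases (ctrMk_eq_iff hC _ _).mp (Finset.mem_filter.mp hv).2 with rfl | ⟨⟨k, hk, rfl⟩, -⟩
      · refine liftAt_cv hC x ?_ hj
        by_contra h; exact hne (by rw [show j = 0 by omega])
      · refine liftAt_cv hC x ?_ hk
        by_contra h; exact hne (by rw [show k = 0 by omega])
    · intro h
      exact (h (Finset.mem_filter.mpr ⟨Finset.mem_univ _,
        (ctrMk_eq_iff hC _ _).mpr (Or.inr ⟨⟨0, Nat.zero_le m, rfl⟩, ⟨j, hj, rfl⟩⟩)⟩)).elim
  · push Not at hu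
    rw [Finset.sum_eq_single u]
    · exact liftAt_off hC x fun k _ hk => hu k hk
    · intro v hv hne
      rcases (ctrMk_eq_iff hC _ _).mp (Finset.mem_filter.mp hv).2 with rfl | ⟨-, ⟨k, hk, h⟩⟩
      · exact absurd rfl hne
      · exact absurd h (hu k hk)
    · simp

theorem liftAt_pushV (hC : LabGraph.IsChain ends f e) (y : V → ℤ)
    (hy : ∀ j, 0 < j → j ≤ m → y (cv f j) = 0) :
    LabGraph.liftAt ends (univ.image e) (f 0) (DualGr.pushV ends (univ.image e) y) = y := by
  funext v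
  by_cases hv : ∃ j, 0 < j ∧ j ≤ m ∧ v = cv f j
  · obtain ⟨j, h0, hj, rfl⟩ := hv
    rw [liftAt_cv hC _ h0 hj, hy j h0 hj]
  · push Not at hv
    rw [liftAt_off hC _ hv, pushV_apply, Finset.sum_eq_single v]
    · intro w hw hne
      rcases (ctrMk_eq_iff hC _ _).mp (Finset.mem_filter.mp hw).2 with rfl | ⟨⟨k, hk, rfl⟩, ⟨l, hl, hvl⟩⟩
      · exact absurd rfl hne
      · refine hy k ?_ hk
        by_contra h
        refine hne ?_
        have hl0 : l = 0 := by
          by_contra hl0
          exact hv l (Nat.pos_of_ne_zero hl0) hl hvl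
        rw [hvl, hl0, show k = 0 by omega]
    · intro h; exact (h (Finset.mem_filter.mpr ⟨Finset.mem_univ _, rfl⟩)).elim

end Groth.Agent.LabGraph6
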