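import Groth.Agent.LabGraph6.Chain

/-!
# The component group and contraction of connecting chains
-/

universe u

open Finset

namespace Groth.Agent.LabGraph6

variable {V E : Type u} [Fintype V] [Fintype E] [DecidableEq V] [DecidableEq E]
variable {ends : E → V × V} {β : V → ℤ} {m : ℕ} {f : Fin (m + 1) → V} {e : Fin m → E}

theorem mem_range_iff {W : Type u} [Fintype W] (M : Matrix W W ℤ) (y : W → ℤ) :
    y ∈ LinearMap.range (Matrix.mulVecLin M) ↔ ∃ z, Matrix.mulVec M z = y := Iff.rfl

theorem exists_clear (hC : LabGraph.IsChain ends f e) (hconn : ∀ i, LabGraph.IsConnecting ends (e i))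
    (hβm : ∀ i, β (f i) = m)
    (hα : ∀ i, LabGraph.mfMatrix ends β (f i) (f i) = -2) (hβ : LabGraph.IsMultFn ends β)
    (y : V → ℤ) :
    ∃ z : V → ℤ, ∀ j, 0 < j → j ≤ m →
      (y + Matrix.mulVec (LabGraph.mfMatrix ends β) z) (cv f j) = 0 := by
  classical
  -- solve the recursion with unknown initial values
  have hsol : ∀ n, ∃ K : ℕ → ℤ → ℤ → ℤ, (∀ a b, K 0 a b = a) ∧ (∀ a b, K 1 a b = b) ∧
      (∀ j, 0 < j → j < n → ∀ a b, K (j + 1) a b = 2 * K j a b - K (j - 1) a b - y (cv f j)) ∧
      ∃ k : ℕ → ℤ, ∀ j ≤ n, ∀ a b, K j a b = (j : ℤ) * b - ((j : ℤ) - 1) * a + k j := by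
    intro n
    induction n with
    | zero => exact ⟨fun j a b => if j = 0 then a else b, fun a b => if_pos rfl, fun a b => by simp,
        fun j _ h => absurd h (by omega), fun _ => 0, fun j hj a b => by
          rw [Nat.le_zero.mp hj]; simp⟩
    | succ n ih =>
      obtain ⟨K, hK0, hK1, hrec, k, hk⟩ := ih
      rcases Nat.eq_zero_or_pos n with rfl | hn
      · refine ⟨K, hK0, hK1, fun j h1 h2 => absurd h2 (by omega), fun _ => 0, fun j hj a b => ?_⟩
        interval_cases j <;> simp [hK0, hK1]
      · refine ⟨fun j a b => if j = n + 1 then 2 * K n a b - K (n - 1) a b - y (cv f n) else K j a b,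
          fun a b => by simp [hK0], fun a b => by simp [hK1, show ¬ n = 0 by omega], ?_,
          fun j => if j = n + 1 then 2 * k n - k (n - 1) - y (cv f n) else k j, ?_⟩
        · intro j hj0 hjn a b
          rcases Nat.lt_or_ge j n with hlt | hge
          · simp only [if_neg (show ¬ j + 1 = n + 1 by omega), if_neg (show ¬ j = n + 1 by omega),
              if_neg (show ¬ j - 1 = n + 1 by omega)]
            exact hrec j hj0 hlt a b
          · obtain rfl : j = n := by omega
            simp only [if_pos, if_neg (show ¬ j = j + 1 by omega),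
              if_neg (show ¬ j - 1 = j + 1 by omega)]
        · intro j hj a b
          rcases eq_or_ne j (n + 1) with rfl | hne
          · simp only [if_pos]
            rw [hk n le_rfl, hk (n - 1) (by omega), Nat.cast_sub (show 1 ≤ n by omega)]
            push_cast; ring
          · simp only [if_neg hne]
            exact hk j (by omega) a b
  obtain ⟨K, hK0, hK1, hrec, k, hk⟩ := hsol m
  have hm := one_le hβ hβm
  -- choose the initial values
  set c : ℤ := y (cv f m) + k (m - 1) - 2 * k m with hc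
  refine ⟨fun v => ∑ i : Fin (m + 1), if f i = v then K i c c + 0 else 0, ?_⟩
  set z : V → ℤ := fun v => ∑ i : Fin (m + 1), if f i = v then K i c c + 0 else 0
  intro j hj0 hj
  have hz : ∀ i ≤ m, z (cv f i) = K i c c := by
    intro i hi
    simp only [z, cv_of_le hi]
    rw [Finset.sum_eq_single ⟨i, by omega⟩]
    · simp
    · intro l _ hl; exact if_neg fun h => hl (hC.1 h)
    · simp
  rw [Pi.add_apply, mulVec_apply, self_cv hα, nb_cv hC z hj, hz j hj, if_pos hj0,
    hz (j - 1) (by omega)]
  rcases Nat.lt_or_ge j m with hlt | hge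
  · rw [if_pos hlt, hz (j + 1) (by omega), offSum_interior hβ hC hβm hα hj0 hlt, hrec j hj0 hlt]
    ring
  · obtain rfl : j = m := by omega
    rw [if_neg (lt_irrefl j)]
    have hoff : offSum ends e z (cv f j) = 0 := by
      refine Finset.sum_eq_zero fun x hx => ?_
      rw [Finset.mem_compl] at hx
      have hz0 : ∀ v, (∀ i ≤ j, v ≠ cv f i) → z v = 0 := by
        intro v hv
        refine Finset.sum_eq_zero fun i _ => if_neg fun h => ?_
        exact hv i (Nat.lt_succ_iff.mp i.2) (by rw [cv_coe, h])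
      have key : ∀ q, ((ends x).1 = cv f j ∧ (ends x).2 = q ∨ (ends x).2 = cv f j ∧ (ends x).1 = q) →
          q ≠ cv f j → z q = 0 := by
        intro q hq hne
        refine hz0 q fun i hi hqi => ?_
        rcases hq with ⟨h1, h2⟩ | ⟨h1, h2⟩
        · exact hne (hqi.trans (congrArg (cv f) (chord hC hconn hx le_rfl hi h1 (h2.trans hqi)).symm))
        · exact hne (hqi.trans (congrArg (cv f) (chord hC hconn hx hi le_rfl (h2.trans hqi) h1)))
      unfold eterm
      split_ifs with h1 h2 h2
      · rw [key _ (Or.inl ⟨h1.1, rfl⟩) h1.2, key _ (Or.inr ⟨h2.1, rfl⟩) h2.2, add_zero]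
      · rw [key _ (Or.inl ⟨h1.1, rfl⟩) h1.2, add_zero]
      · rw [key _ (Or.inr ⟨h2.1, rfl⟩) h2.2, add_zero]
      · rfl
    rw [hoff, hk j le_rfl, hk (j - 1) (by omega), Nat.cast_sub (show 1 ≤ j by omega)]
    push_cast
    rw [hc]; ring

theorem exists_hom_surjective (hβ : LabGraph.IsMultFn ends β) (hC : LabGraph.IsChain ends f e)
    (hconn : ∀ i, LabGraph.IsConnecting ends (e i)) (hβm : ∀ i, β (f i) = m)
    (hα : ∀ i, LabGraph.mfMatrix ends β (f i) (f i) = -2) :
    ∃ φ : LabGraph.CompGrp (DualGr.ctrEnds ends (univ.image e)) (LabGraph.ctrFn ends (univ.image e) β) →+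
        LabGraph.CompGrp ends β,
      Function.Surjective φ ∧
      ∀ (x : LinearMap.ker (LabGraph.betaHom (LabGraph.ctrFn ends (univ.image e) β)))
        (y : LinearMap.ker (LabGraph.betaHom β)),
        (y : V → ℤ) = LabGraph.liftAt ends (univ.image e) (f 0)
          (x : DualGr.CtrVert ends (univ.image e) → ℤ) →
        φ (Submodule.Quotient.mk x) = Submodule.Quotient.mk y := by
  have hco : ConstOn ends β (univ.image e) := constOn hC fun i j => by rw [hβm, hβm]
  let L : (DualGr.CtrVert ends (univ.image e) → ℤ) →ₗ[ℤ] (V → ℤ) :=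
    { toFun := LabGraph.liftAt ends (univ.image e) (f 0)
      map_add' := fun a b => by
        funext v; unfold LabGraph.liftAt; simp only [Pi.add_apply]; split_ifs <;> simp
      map_smul' := fun r a => by
        funext v; unfold LabGraph.liftAt; simp only [Pi.smul_apply, RingHom.id_apply]; split_ifs <;> simp }
  have hker : ∀ x ∈ LinearMap.ker (LabGraph.betaHom (LabGraph.ctrFn ends (univ.image e) β)),
      L x ∈ LinearMap.ker (LabGraph.betaHom β) := by
    intro x hx
    rw [LinearMap.mem_ker, ← betaHom_pushV hco]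
    show LabGraph.betaHom _ (DualGr.pushV ends _ (LabGraph.liftAt ends _ (f 0) x)) = 0
    rw [pushV_liftAt hC]; exact hx
  obtain ⟨W, hW, hWα⟩ := exists_shift hβ hC hconn hβm hα
  have himg : ∀ z, ∃ w, Matrix.mulVec (LabGraph.mfMatrix ends β) w =
      L (Matrix.mulVec (LabGraph.mfMatrix (DualGr.ctrEnds ends (univ.image e))
        (LabGraph.ctrFn ends (univ.image e) β)) z) := by
    intro z
    set P : V → ℤ := fun v => z (DualGr.ctrMk ends (univ.image e) v)
    set a := Matrix.mulVec (LabGraph.mfMatrix ends β) P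
    refine ⟨P + a (cv f m) • W, ?_⟩
    have hm := one_le hβ hβm
    have hP : ∀ j ≤ m, P (cv f j) = P (cv f 0) := fun j hj => congrArg z
      ((ctrMk_eq_iff hC _ _).mpr (Or.inr ⟨⟨j, hj, rfl⟩, ⟨0, Nat.zero_le m, rfl⟩⟩))
    have hmid : ∀ j, 0 < j → j < m → a (cv f j) = 0 := by
      intro j h0 h1
      show Matrix.mulVec (LabGraph.mfMatrix ends β) P (cv f j) = 0
      rw [mulVec_apply, self_cv hα, nb_cv hC P h1.le, if_pos h1, if_pos h0,
        offSum_interior hβ hC hβm hα h0 h1, hP j h1.le, hP (j + 1) h1, hP (j - 1) (by omega)]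
      ring
    have hne : cv f 0 ≠ cv f m := fun h => by
      have := cv_injOn hC (Nat.zero_le m) le_rfl h; omega
    rw [Matrix.mulVec_add, Matrix.mulVec_smul, hWα, mulVec_ctr hβ hco]
    show _ = LabGraph.liftAt ends _ (f 0) (DualGr.pushV ends _ a)
    have hpush : DualGr.pushV ends (univ.image e) a =
        DualGr.pushV ends (univ.image e) (a + a (cv f m) • (Pi.single (cv f 0) 1 - Pi.single (cv f m) 1)) := by
      have h0 : DualGr.pushV ends (univ.image e) (Pi.single (cv f 0) (1 : ℤ) - Pi.single (cv f m) 1) = 0 := by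
        funext c
        rw [pushV_apply]
        simp only [Pi.sub_apply, Finset.sum_sub_distrib, Pi.single_apply, Finset.sum_ite_eq',
          Finset.mem_filter, Finset.mem_univ, true_and, Pi.zero_apply]
        rw [(ctrMk_eq_iff hC (cv f 0) (cv f m)).mpr
          (Or.inr ⟨⟨0, Nat.zero_le m, rfl⟩, ⟨m, le_rfl, rfl⟩⟩), sub_self]
      rw [map_add, map_smul, h0, smul_zero, add_zero]
    rw [hpush, liftAt_pushV hC]
    intro j h0 hj
    have hjne : cv f j ≠ cv f 0 := fun h => by
      have := cv_injOn hC hj (Nat.zero_le m) h; omega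
    rcases Nat.lt_or_ge j m with hlt | hge
    · have hjm : cv f j ≠ cv f m := fun h => by
        have := cv_injOn hC hj le_rfl h; omega
      simp [hmid j h0 hlt, hjne, hjm]
    · obtain rfl : j = m := by omega
      simp [hjne]
  let T : LinearMap.ker (LabGraph.betaHom (LabGraph.ctrFn ends (univ.image e) β)) →ₗ[ℤ]
      LinearMap.ker (LabGraph.betaHom β) := L.restrict hker
  refine ⟨(Submodule.mapQ _ _ T ?_).toAddMonoidHom, ?_, ?_⟩
  · rintro ⟨x, hx⟩ ⟨z, hz⟩
    have hz' : Matrix.mulVec _ z = x := hz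
    obtain ⟨w, hw⟩ := himg z
    refine ⟨w, ?_⟩
    show Matrix.mulVec _ w = L x
    rw [hw, hz']
  · intro q
    obtain ⟨⟨y, hy⟩, rfl⟩ := Submodule.Quotient.mk_surjective _ q
    obtain ⟨w, hw⟩ := exists_clear hC hconn hβm hα hβ y
    set y' := y + Matrix.mulVec (LabGraph.mfMatrix ends β) w with hy'
    have hy'k : y' ∈ LinearMap.ker (LabGraph.betaHom β) :=
      add_mem hy (range_le_ker hβ ⟨w, rfl⟩)
    refine ⟨Submodule.Quotient.mk ⟨DualGr.pushV ends (univ.image e) y', ?_⟩, ?_⟩
    · rw [LinearMap.mem_ker, betaHom_pushV hco]; exact hy'k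
    · refine (Submodule.Quotient.eq _).mpr ⟨w, ?_⟩
      show Matrix.mulVec _ w = L (DualGr.pushV ends (univ.image e) y') - y
      show Matrix.mulVec _ w = LabGraph.liftAt ends _ (f 0) (DualGr.pushV ends (univ.image e) y') - y
      rw [liftAt_pushV hC y' hw, hy']
      abel
  · intro x y hxy
    exact congrArg Submodule.Quotient.mk (Subtype.ext hxy.symm)

theorem mem_range_of_liftAt (hβ : LabGraph.IsMultFn ends β) (hC : LabGraph.IsChain ends f e)
    (hconn : ∀ i, LabGraph.IsConnecting ends (e i)) (hβm : ∀ i, β (f i) = m)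
    (hα : ∀ i, LabGraph.mfMatrix ends β (f i) (f i) = -2)
    (x : DualGr.CtrVert ends (univ.image e) → ℤ)
    (hfx : LabGraph.liftAt ends (univ.image e) (f 0) x ∈
      LinearMap.range (Matrix.mulVecLin (LabGraph.mfMatrix ends β))) :
    x ∈ LinearMap.range (Matrix.mulVecLin
      (LabGraph.mfMatrix (DualGr.ctrEnds ends (univ.image e)) (LabGraph.ctrFn ends (univ.image e) β))) := by
  have hco : ConstOn ends β (univ.image e) := constOn hC fun i j => by rw [hβm, hβm]
  obtain ⟨W, hW, hWα⟩ := exists_shift hβ hC hconn hβm hα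
  obtain ⟨y, hy⟩ := hfx
  have hy' : Matrix.mulVec (LabGraph.mfMatrix ends β) y = LabGraph.liftAt ends (univ.image e) (f 0) x := hy
  have hm := one_le hβ hβm
  set d := y (cv f 1) - y (cv f 0)
  -- the differences along the chain are constant
  have hlin : ∀ j, j ≤ m → y (cv f j) = y (cv f 0) + (j : ℤ) * d := by
    intro j
    induction j using Nat.strong_induction_on with
    | _ j ih =>
      intro hj
      match j, hj with
      | 0, _ => simp
      | 1, _ => simp [d]
      | k + 2, hj =>
        have h1 := congrFun hy' (cv f (k + 1))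
        rw [mulVec_apply, self_cv hα, nb_cv hC y (show k + 1 ≤ m by omega),
          if_pos (show k + 1 < m by omega), if_pos (show 0 < k + 1 by omega),
          offSum_interior hβ hC hβm hα (show 0 < k + 1 by omega) (show k + 1 < m by omega),
          liftAt_cv hC x (show 0 < k + 1 by omega) (show k + 1 ≤ m by omega)] at h1
        simp only [show k + 1 + 1 = k + 2 from rfl, Nat.add_sub_cancel] at h1
        rw [ih k (by omega) (by omega), ih (k + 1) (by omega) (by omega)] at h1
        push_cast at h1 ⊢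
        linarith
  let y' := y - d • W
  have hconst : ∀ j ≤ m, y' (cv f j) = y (cv f 0) := by
    intro j hj
    simp only [y', Pi.sub_apply, Pi.smul_apply, smul_eq_mul, hW j hj, hlin j hj]
    ring
  have hfac : ∀ u v, DualGr.ctrMk ends (univ.image e) u = DualGr.ctrMk ends (univ.image e) v →
      y' u = y' v := by
    intro u v h
    rcases (ctrMk_eq_iff hC u v).mp h with rfl | ⟨⟨i, hi, rfl⟩, ⟨j, hj, rfl⟩⟩
    · rfl
    · rw [hconst i hi, hconst j hj]
  refine ⟨fun c => y' (Quotient.out (s := DualGr.ctrSetoid ends (univ.image e)) c), ?_⟩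
  show Matrix.mulVec _ _ = x
  rw [mulVec_ctr hβ hco]
  have hP : (fun v => y' (Quotient.out (s := DualGr.ctrSetoid ends (univ.image e))
      (DualGr.ctrMk ends (univ.image e) v))) = y' :=
    funext fun v => hfac _ _ (Quotient.out_eq (s := DualGr.ctrSetoid ends (univ.image e)) _)
  rw [hP, Matrix.mulVec_sub, Matrix.mulVec_smul, hWα, hy', map_sub, map_smul, pushV_liftAt hC]
  have h0 : DualGr.pushV ends (univ.image e) (Pi.single (cv f 0) (1 : ℤ) - Pi.single (cv f m) 1) = 0 := by
    funext c
    rw [pushV_apply]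
    simp only [Pi.sub_apply, Finset.sum_sub_distrib, Pi.single_apply, Finset.sum_ite_eq',
      Finset.mem_filter, Finset.mem_univ, true_and, Pi.zero_apply]
    rw [(ctrMk_eq_iff hC (cv f 0) (cv f m)).mpr
      (Or.inr ⟨⟨0, Nat.zero_le m, rfl⟩, ⟨m, le_rfl, rfl⟩⟩), sub_self]
  rw [h0, smul_zero, sub_zero]

end Groth.Agent.LabGraph6
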