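import Groth.Agent.LabGraph6.Basic

/-!
# Reachability through an edge set, circuits, spanning trees
-/

universe u

open Finset

namespace Groth.Agent.LabGraph6

variable {V E : Type u} [Fintype V] [Fintype E] [DecidableEq V] [DecidableEq E]
variable {ends : E → V × V}

/-- Adjacency through an edge of `T`. -/
def Adj' (ends : E → V × V) (T : Finset E) (x y : V) : Prop :=
  ∃ e ∈ T, ends e = (x, y) ∨ ends e = (y, x)

/-- Joined by a walk in `T`. -/
def Reach (ends : E → V × V) (T : Finset E) : V → V → Prop := Relation.ReflTransGen (Adj' ends T)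

theorem reach_symm {T : Finset E} {x y : V} (h : Reach ends T x y) : Reach ends T y x :=
  by
    induction h with
    | refl => exact .refl
    | tail _ hyz ih =>
      obtain ⟨e, he, h⟩ := hyz
      exact Relation.ReflTransGen.head ⟨e, he, h.symm⟩ ih

theorem reach_mono {S T : Finset E} (hST : S ⊆ T) {x y : V} (h : Reach ends S x y) :
    Reach ends T x y :=
  by
    induction h with
    | refl => exact .refl
    | tail _ hyz ih =>
      obtain ⟨e, he, h⟩ := hyz
      exact ih.tail ⟨e, hST he, h⟩

theorem isCircuit_loop {e : E} (h : (ends e).1 = (ends e).2) : LabGraph.IsCircuit ends {e} := by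
  refine ⟨Finset.singleton_nonempty e, fun v => ?_, fun C' hC' hne => ?_⟩
  · simp only [LabGraph.endCount, Finset.sum_singleton, h]
    split_ifs <;> decide
  · have := Finset.ssubset_singleton_iff.mp hC'
    exact absurd hne (by simp [this])

theorem exists_circuit_of_even : ∀ (C : Finset E), C.Nonempty →
    (∀ v : V, Even (LabGraph.endCount ends C v)) → ∃ C' ⊆ C, LabGraph.IsCircuit ends C' := by
  intro C
  induction C using Finset.strongInduction with
  | H C ih =>
    intro hne hev
    by_cases h : ∀ C' : Finset E, C' ⊂ C → C'.Nonempty → ∃ v : V, ¬ Even (LabGraph.endCount ends C' v)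
    · exact ⟨C, subset_rfl, hne, hev, h⟩
    · push Not at h
      obtain ⟨C', hss, hne', hev'⟩ := h
      obtain ⟨C'', hsub, hcirc⟩ := ih C' hss hne' hev'
      exact ⟨C'', hsub.trans hss.subset, hcirc⟩

theorem endCount_erase {C : Finset E} {e : E} (he : e ∈ C) (v : V) :
    LabGraph.endCount ends C v = LabGraph.endCount ends (C.erase e) v +
      ((if (ends e).1 = v then 1 else 0) + (if (ends e).2 = v then 1 else 0)) := by
  rw [LabGraph.endCount, LabGraph.endCount, Finset.sum_erase_add _ _ he]

theorem sum_endCount (C : Finset E) (s : Finset V) :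
    ∑ v ∈ s, LabGraph.endCount ends C v =
      ∑ e ∈ C, ((if (ends e).1 ∈ s then 1 else 0) + (if (ends e).2 ∈ s then 1 else 0)) := by
  simp only [LabGraph.endCount]
  rw [Finset.sum_comm]
  simp [Finset.sum_add_distrib, Finset.sum_ite_eq]

/-- The two endpoints of an edge of an even edge set are joined by the other edges of the set. -/
theorem reach_erase_of_even {C : Finset E} (hev : ∀ v : V, Even (LabGraph.endCount ends C v)) {e : E}
    (he : e ∈ C) : Reach ends (C.erase e) (ends e).1 (ends e).2 := by
  classical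
  by_contra hn
  let s := (univ : Finset V).filter fun v => Reach ends (C.erase e) (ends e).1 v
  have hmem : ∀ v, v ∈ s ↔ Reach ends (C.erase e) (ends e).1 v := fun v => by simp [s]
  have ha : (ends e).1 ∈ s := (hmem _).mpr .refl
  have hb : (ends e).2 ∉ s := fun h => hn ((hmem _).mp h)
  have hclosed : ∀ e' ∈ C.erase e, ((ends e').1 ∈ s ↔ (ends e').2 ∈ s) := by
    intro e' he'
    rw [hmem, hmem]
    exact ⟨fun h => h.tail ⟨e', he', Or.inl rfl⟩, fun h => h.tail ⟨e', he', Or.inr rfl⟩⟩
  have h1 : Even (∑ v ∈ s, LabGraph.endCount ends C v) := Finset.even_sum _ fun v _ => hev v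
  rw [sum_endCount, ← Finset.sum_erase_add _ _ he, if_pos ha, if_neg hb, add_zero] at h1
  have h2 : Even (∑ e' ∈ C.erase e,
      ((if (ends e').1 ∈ s then 1 else 0) + (if (ends e').2 ∈ s then 1 else 0) : ℕ)) :=
    Finset.even_sum _ fun e' he' => by
      by_cases hm : (ends e').1 ∈ s
      · rw [if_pos hm, if_pos ((hclosed e' he').mp hm)]; decide
      · rw [if_neg hm, if_neg (mt (hclosed e' he').mpr hm)]; decide
  exact Nat.not_even_one ((Nat.even_add.mp h1).mp h2)

theorem reach_erase_circuit {T C : Finset E} (hev : ∀ v : V, Even (LabGraph.endCount ends C v))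
    (hCT : C ⊆ T) {e : E} (he : e ∈ C) {x y : V} (h : Reach ends T x y) :
    Reach ends (T.erase e) x y := by
  induction h with
  | refl => exact .refl
  | @tail y z _ hyz ih =>
    refine ih.trans ?_
    obtain ⟨e', he', hyz⟩ := hyz
    rcases eq_or_ne e' e with rfl | hne
    · have h1 := reach_mono (Finset.erase_subset_erase e' hCT) (reach_erase_of_even hev he)
      rcases hyz with h | h <;> rw [h] at h1
      · exact h1
      · exact reach_symm h1
    · exact .single ⟨e', Finset.mem_erase.mpr ⟨hne, he'⟩, hyz⟩

/-- More edges than `card V - 1` force a circuit. -/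
theorem exists_circuit_of_card_le [Nonempty V] (T : Finset E) (h : Fintype.card V ≤ T.card) :
    ∃ C ⊆ T, LabGraph.IsCircuit ends C := by
  classical
  obtain ⟨v₀⟩ := ‹Nonempty V›
  let par : Finset E → ({v : V // v ≠ v₀} → ZMod 2) := fun C v => (LabGraph.endCount ends C v.1 : ZMod 2)
  have hlt : Fintype.card ({v : V // v ≠ v₀} → ZMod 2) < T.powerset.card := by
    rw [Fintype.card_fun, ZMod.card, Finset.card_powerset, Fintype.card_subtype_compl,
      Fintype.card_subtype_eq]
    refine Nat.pow_lt_pow_right (by norm_num) ?_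
    have : 0 < Fintype.card V := Fintype.card_pos
    omega
  obtain ⟨A, hA, B, hB, hne, heq⟩ := Finset.exists_ne_map_eq_of_card_lt_of_maps_to
    (s := T.powerset) (t := (univ : Finset ({v : V // v ≠ v₀} → ZMod 2))) (f := par) (by simpa using hlt)
    fun _ _ => Finset.mem_univ _
  rw [Finset.mem_powerset] at hA hB
  let C := (A \ B) ∪ (B \ A)
  have hC : C.Nonempty := by
    rw [Finset.nonempty_iff_ne_empty]
    intro h0
    apply hne
    simp only [C, Finset.union_eq_empty, Finset.sdiff_eq_empty_iff_subset] at h0
    exact Finset.Subset.antisymm h0.1 h0.2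
  have hsplit : ∀ v, LabGraph.endCount ends A v + LabGraph.endCount ends B v =
      LabGraph.endCount ends C v + 2 * LabGraph.endCount ends (A ∩ B) v := by
    intro v
    simp only [LabGraph.endCount, C]
    rw [Finset.sum_union (disjoint_sdiff_sdiff), ← Finset.sum_inter_add_sum_sdiff A B,
      ← Finset.sum_inter_add_sum_sdiff B A, Finset.inter_comm B A]
    ring
  have hev : ∀ v, v ≠ v₀ → Even (LabGraph.endCount ends C v) := by
    intro v hv
    have h1 : (LabGraph.endCount ends A v : ZMod 2) = (LabGraph.endCount ends B v : ZMod 2) :=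
      congrFun heq ⟨v, hv⟩
    rw [ZMod.natCast_eq_natCast_iff'] at h1
    have := hsplit v
    rw [Nat.even_iff]
    omega
  have hev0 : Even (LabGraph.endCount ends C v₀) := by
    have h1 : Even (∑ v, LabGraph.endCount ends C v) := by
      rw [sum_endCount]; simp
    rw [← Finset.add_sum_erase _ _ (Finset.mem_univ v₀)] at h1
    exact (Nat.even_add.mp h1).mpr (Finset.even_sum _ fun v hv => hev v (Finset.mem_erase.mp hv).1)
  obtain ⟨C', hsub, hcirc⟩ := exists_circuit_of_even C hC fun v => by
    rcases eq_or_ne v v₀ with rfl | hv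
    · exact hev0
    · exact hev v hv
  exact ⟨C', hsub.trans (Finset.union_subset (Finset.sdiff_subset.trans hA) (Finset.sdiff_subset.trans hB)),
    hcirc⟩

theorem isCircuit_subtype {T : Finset E} (C : Finset {e : E // e ∈ T}) :
    LabGraph.IsCircuit (V := V) (fun e : {e : E // e ∈ T} => ends e.1) C ↔
      LabGraph.IsCircuit ends (C.map (Function.Embedding.subtype _)) := by
  have hc : ∀ D : Finset {e : E // e ∈ T}, ∀ v, LabGraph.endCount ends (D.map (Function.Embedding.subtype _)) v =
      LabGraph.endCount (V := V) (fun e : {e : E // e ∈ T} => ends e.1) D v := fun D v => by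
    simp [LabGraph.endCount, Finset.sum_map]
    rfl
  constructor
  · rintro ⟨hne, hev, hmin⟩
    refine ⟨hne.map, fun v => by rw [hc]; exact hev v, fun D hD hDne => ?_⟩
    obtain ⟨D', hD', rfl⟩ := Finset.subset_map_iff.mp hD.subset
    obtain ⟨v, hv⟩ := hmin D' (Finset.map_ssubset_map.mp hD) (Finset.map_nonempty.mp hDne)
    exact ⟨v, by rw [hc]; exact hv⟩
  · rintro ⟨hne, hev, hmin⟩
    refine ⟨Finset.map_nonempty.mp hne, fun v => by rw [← hc]; exact hev v, fun D hD hDne => ?_⟩
    obtain ⟨v, hv⟩ := hmin _ (Finset.map_ssubset_map.mpr hD) hDne.map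
    exact ⟨v, by rw [← hc]; exact hv⟩

theorem isForest_iff {T : Finset E} :
    DualGr.IsForest (V := V) (fun e : {e : E // e ∈ T} => ends e.1) ↔
      ∀ C ⊆ T, ¬ LabGraph.IsCircuit ends C := by
  constructor
  · intro h C hC hcirc
    have : (C.subtype (· ∈ T)).map (Function.Embedding.subtype _) = C :=
      Finset.subtype_map_of_mem fun x hx => hC hx
    exact h (C.subtype (· ∈ T)) ((isCircuit_subtype _).mpr (this.symm ▸ hcirc))
  · intro h C hC
    exact h _ (fun x hx => by
      obtain ⟨y, -, rfl⟩ := Finset.mem_map.mp hx; exact y.2) ((isCircuit_subtype C).mp hC)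

theorem connected_iff {T : Finset E} :
    LabGraph.Connected (V := V) (fun e : {e : E // e ∈ T} => ends e.1) ↔
      Nonempty V ∧ ∀ x y, Reach ends T x y := by
  have h : LabGraph.Adj (V := V) (fun e : {e : E // e ∈ T} => ends e.1) = Adj' ends T := by
    funext x y
    refine propext ⟨fun ⟨e, he⟩ => ⟨e.1, e.2, he⟩, fun ⟨e, he, h⟩ => ⟨⟨e, he⟩, h⟩⟩
  unfold LabGraph.Connected Reach
  rw [h]

theorem isSpanningTree_iff {T : Finset E} :
    LabGraph.IsSpanningTree ends T ↔
      (Nonempty V ∧ ∀ x y, Reach ends T x y) ∧ ∀ C ⊆ T, ¬ LabGraph.IsCircuit ends C := by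
  rw [LabGraph.IsSpanningTree, DualGr.IsTree, connected_iff, isForest_iff]

theorem nbrCount_eq_endCount {T : Finset E} (hT : ∀ C ⊆ T, ¬ LabGraph.IsCircuit ends C) (v : V) :
    LabGraph.nbrCount ends T v = LabGraph.endCount ends T v := by
  classical
  have hloop : ∀ e ∈ T, (ends e).1 ≠ (ends e).2 := fun e he h =>
    hT {e} (Finset.singleton_subset_iff.mpr he) (isCircuit_loop h)
  have hend : LabGraph.endCount ends T v =
      (T.filter fun e => (ends e).1 = v ∨ (ends e).2 = v).card := by
    rw [Finset.card_filter, LabGraph.endCount]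
    refine Finset.sum_congr rfl fun e he => ?_
    have := hloop e he
    by_cases h1 : (ends e).1 = v <;> by_cases h2 : (ends e).2 = v <;> simp [h1, h2]
    exact this (h1.trans h2.symm)
  rw [hend, LabGraph.nbrCount]
  symm
  let other : E → V := fun e => if (ends e).1 = v then (ends e).2 else (ends e).1
  have hother : ∀ e, (ends e).1 = v ∨ (ends e).2 = v →
      ends e = (v, other e) ∨ ends e = (other e, v) := by
    intro e he
    simp only [other]
    by_cases h1 : (ends e).1 = v
    · left; rw [if_pos h1, ← h1]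
    · right; rw [if_neg h1, ← he.resolve_left h1]
  refine Finset.card_bij (fun e _ => other e) (fun e he => ?_) (fun a ha b hb hab => ?_) (fun w hw => ?_)
  · rw [Finset.mem_filter] at he ⊢
    refine ⟨Finset.mem_univ _, ?_, e, he.1, hother e he.2⟩
    intro h
    rcases hother e he.2 with h' | h' <;> exact hloop e he.1 (by rw [h', h])
  · rw [Finset.mem_filter] at ha hb
    by_contra hne
    obtain ⟨C, hC, hcirc⟩ := exists_circuit_of_even (ends := ends) ({a, b} : Finset E) (by simp) fun u => by
      simp only [LabGraph.endCount, Finset.sum_pair hne]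
      rcases hother a ha.2 with h1 | h1 <;> rcases hother b hb.2 with h2 | h2 <;>
        rw [h1, h2, hab] <;> simp only <;> split_ifs <;> decide
    exact hT C (hC.trans (by
      intro x hx
      rcases Finset.mem_insert.mp hx with rfl | hx
      · exact ha.1
      · rw [Finset.mem_singleton.mp hx]; exact hb.1)) hcirc
  · rw [Finset.mem_filter] at hw
    obtain ⟨-, hwv, e, he, h⟩ := hw
    refine ⟨e, Finset.mem_filter.mpr ⟨he, ?_⟩, ?_⟩
    · rcases h with h | h <;> simp [h]
    · rcases h with h | h <;> simp [other, h, hwv]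

end Groth.Agent.LabGraph6
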