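import Groth.Agent.LabGraph6.Basic

/-!
# Contraction of edges along which the multiplicity function is constant
-/

universe u

open Finset

namespace Groth.Agent.LabGraph6

variable {V E : Type u} [Fintype V] [Fintype E] [DecidableEq V] [DecidableEq E]
variable {ends : E → V × V} {β : V → ℤ} {D : Finset E}

/-- `β` is constant on the classes of the contraction along `D`. -/
def ConstOn (ends : E → V × V) (β : V → ℤ) (D : Finset E) : Prop :=
  ∀ u v, DualGr.ctrMk ends D u = DualGr.ctrMk ends D v → β u = β v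

theorem ctrFn_mk (h : ConstOn ends β D) (v : V) :
    LabGraph.ctrFn ends D β (DualGr.ctrMk ends D v) = β v :=
  h _ _ (Quotient.out_eq (s := DualGr.ctrSetoid ends D) _)

theorem ctrFn_comp (h : ConstOn ends β D) :
    (fun v => LabGraph.ctrFn ends D β (DualGr.ctrMk ends D v)) = β := funext (ctrFn_mk h)

theorem ctrFn_pos (hβ : LabGraph.IsMultFn ends β) (c : DualGr.CtrVert ends D) :
    0 < LabGraph.ctrFn ends D β c := (hβ _).1

/-- The self term of a class. -/
noncomputable def selfTerm (ends : E → V × V) (D : Finset E) (c : DualGr.CtrVert ends D) : ℤ :=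
  ∑ e, ((if DualGr.ctrMk ends D (ends e).1 = c ∧ DualGr.ctrMk ends D (ends e).2 = c ∧
      (ends e).2 ≠ (ends e).1 then 1 else 0) +
    (if DualGr.ctrMk ends D (ends e).2 = c ∧ DualGr.ctrMk ends D (ends e).1 = c ∧
      (ends e).1 ≠ (ends e).2 then 1 else 0))

theorem sum_fibre_nb (z : DualGr.CtrVert ends D → ℤ) (c : DualGr.CtrVert ends D) :
    ∑ v ∈ univ.filter (fun v => DualGr.ctrMk ends D v = c),
        nb ends (fun v => z (DualGr.ctrMk ends D v)) v =
      selfTerm ends D c * z c + nb (DualGr.ctrEnds ends D) z c := by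
  have hR : nb (DualGr.ctrEnds ends D) z c = ∑ e : E,
      ((if DualGr.ctrMk ends D (ends e).1 = c ∧ DualGr.ctrMk ends D (ends e).2 ≠ c then
          z (DualGr.ctrMk ends D (ends e).2) else 0) +
      (if DualGr.ctrMk ends D (ends e).2 = c ∧ DualGr.ctrMk ends D (ends e).1 ≠ c then
          z (DualGr.ctrMk ends D (ends e).1) else 0)) := by
    refine (Finset.sum_subtype (univ.filter fun e : E => e ∉ D) (by simp) (fun e : E =>
      ((if DualGr.ctrMk ends D (ends e).1 = c ∧ DualGr.ctrMk ends D (ends e).2 ≠ c then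
          z (DualGr.ctrMk ends D (ends e).2) else 0) +
      (if DualGr.ctrMk ends D (ends e).2 = c ∧ DualGr.ctrMk ends D (ends e).1 ≠ c then
          z (DualGr.ctrMk ends D (ends e).1) else 0)))).symm.trans ?_
    refine Finset.sum_filter_of_ne fun e _ hne he => hne ?_
    rw [DualGr.ctrMk_fst_eq_ctrMk_snd ends D he]
    simp
  rw [hR]
  simp only [nb, selfTerm]
  rw [Finset.sum_comm, Finset.sum_mul, ← Finset.sum_add_distrib]
  refine Finset.sum_congr rfl fun e _ => ?_
  simp only [eterm, ite_and, Finset.sum_add_distrib, Finset.sum_ite_eq, Finset.mem_filter,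
    Finset.mem_univ, true_and]
  by_cases h1 : DualGr.ctrMk ends D (ends e).1 = c <;>
    by_cases h2 : DualGr.ctrMk ends D (ends e).2 = c <;>
    rcases eq_or_ne (ends e).2 (ends e).1 with h3 | h3
  all_goals first
    | (simp [h1, h2, h3]; done)
    | (simp [h1, h2, h3, Ne.symm h3]; done)
    | (simp [h1, h2, h3, Ne.symm h3]; ring)
    | (rw [h3] at h2; exact absurd h2 h1)
    | (rw [h3] at h2; exact absurd h1 h2)

theorem pushV_apply (φ : V → ℤ) (c : DualGr.CtrVert ends D) :
    DualGr.pushV ends D φ c = ∑ x ∈ univ.filter (fun x => DualGr.ctrMk ends D x = c), φ x := rfl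

theorem pushV_mulVec_pull (z : DualGr.CtrVert ends D → ℤ) (c : DualGr.CtrVert ends D) :
    DualGr.pushV ends D (Matrix.mulVec (LabGraph.mfMatrix ends β)
        (fun v => z (DualGr.ctrMk ends D v))) c =
      ((∑ v ∈ univ.filter (fun v => DualGr.ctrMk ends D v = c), LabGraph.mfMatrix ends β v v) +
        selfTerm ends D c) * z c + nb (DualGr.ctrEnds ends D) z c := by
  rw [pushV_apply, add_mul, add_assoc, ← sum_fibre_nb, Finset.sum_mul, ← Finset.sum_add_distrib]
  refine Finset.sum_congr rfl fun v hv => ?_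
  rw [mulVec_apply]
  simp only [(Finset.mem_filter.mp hv).2]

theorem self_ctr (hβ : LabGraph.IsMultFn ends β) (h : ConstOn ends β D)
    (c : DualGr.CtrVert ends D) :
    ((∑ v ∈ univ.filter (fun v => DualGr.ctrMk ends D v = c), LabGraph.mfMatrix ends β v v) +
        selfTerm ends D c) * LabGraph.ctrFn ends D β c =
      -nb (DualGr.ctrEnds ends D) (LabGraph.ctrFn ends D β) c := by
  have h1 := pushV_mulVec_pull (β := β) (LabGraph.ctrFn ends D β) c
  rw [ctrFn_comp h, mulVec_beta hβ, map_zero, Pi.zero_apply] at h1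
  linarith

theorem isMultFn_ctr (hβ : LabGraph.IsMultFn ends β) (h : ConstOn ends β D) :
    LabGraph.IsMultFn (DualGr.ctrEnds ends D) (LabGraph.ctrFn ends D β) := by
  intro c
  refine ⟨ctrFn_pos hβ c, ?_⟩
  rw [sum_erase_edgeMult, ← dvd_neg, ← self_ctr hβ h c]
  exact dvd_mul_left _ _

theorem mulVec_ctr (hβ : LabGraph.IsMultFn ends β) (h : ConstOn ends β D)
    (z : DualGr.CtrVert ends D → ℤ) :
    Matrix.mulVec (LabGraph.mfMatrix (DualGr.ctrEnds ends D) (LabGraph.ctrFn ends D β)) z =
      DualGr.pushV ends D (Matrix.mulVec (LabGraph.mfMatrix ends β)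
        (fun v => z (DualGr.ctrMk ends D v))) := by
  funext c
  rw [mulVec_apply, pushV_mulVec_pull, mfMatrix_self, ← self_ctr hβ h c,
    Int.mul_ediv_cancel _ (ctrFn_pos hβ c).ne']

theorem betaHom_pushV (h : ConstOn ends β D) (y : V → ℤ) :
    LabGraph.betaHom (LabGraph.ctrFn ends D β) (DualGr.pushV ends D y) = LabGraph.betaHom β y := by
  rw [betaHom_apply, betaHom_apply,
    ← Finset.sum_fiberwise univ (DualGr.ctrMk ends D) (fun v => β v * y v)]
  refine Finset.sum_congr rfl fun c _ => ?_
  rw [pushV_apply, Finset.mul_sum]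
  refine Finset.sum_congr rfl fun v hv => ?_
  rw [← (Finset.mem_filter.mp hv).2, ctrFn_mk h]

end Groth.Agent.LabGraph6
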