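import Groth.Agent.LabGraph6.Circuit
import Groth.Prelude.Def_W4c1nerontoraddGraph

/-!
# Walk vectors, cycles, potentials
-/

universe u

open Finset

namespace Groth.Agent.LabGraph6

variable {V E : Type u} [Fintype V] [Fintype E] [DecidableEq V] [DecidableEq E]
variable {ends : E → V × V}

theorem boundary_add (γ δ : E → ℤ) (v : V) :
    LabGraph.boundary ends (γ + δ) v = LabGraph.boundary ends γ v + LabGraph.boundary ends δ v := by
  simp only [LabGraph.boundary, Pi.add_apply, ← Finset.sum_add_distrib]
  exact Finset.sum_congr rfl fun e _ => by split_ifs <;> ring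

theorem boundary_smul (c : ℤ) (γ : E → ℤ) (v : V) :
    LabGraph.boundary ends (c • γ) v = c * LabGraph.boundary ends γ v := by
  simp only [LabGraph.boundary, Pi.smul_apply, smul_eq_mul, Finset.mul_sum]
  exact Finset.sum_congr rfl fun e _ => by split_ifs <;> ring

theorem boundary_single (e : E) (c : ℤ) (v : V) :
    LabGraph.boundary ends (Pi.single e c) v =
      (if (ends e).2 = v then c else 0) - (if (ends e).1 = v then c else 0) := by
  rw [LabGraph.boundary, Finset.sum_eq_single e]
  · simp
  · intro e' _ h; simp [h]
  · simp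

/-- The boundary pairs with vertex functions as the coboundary. -/
theorem sum_mul_boundary (φ : V → ℤ) (γ : E → ℤ) :
    ∑ v, φ v * LabGraph.boundary ends γ v = ∑ e, γ e * (φ (ends e).2 - φ (ends e).1) := by
  simp only [LabGraph.boundary, Finset.mul_sum]
  rw [Finset.sum_comm]
  refine Finset.sum_congr rfl fun e _ => ?_
  simp only [mul_sub, mul_ite, mul_zero, Finset.sum_sub_distrib, Finset.sum_ite_eq, Finset.mem_univ,
    if_true]
  ring

/-- A walk gives an edge vector. -/
theorem exists_path_vec {T : Finset E} {a b : V} (h : Reach ends T a b) :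
    ∃ γ : E → ℤ, (∀ e, e ∉ T → γ e = 0) ∧
      ∀ v, LabGraph.boundary ends γ v = (if b = v then 1 else 0) - (if a = v then 1 else 0) := by
  induction h with
  | refl => exact ⟨0, fun _ _ => rfl, fun v => by simp [LabGraph.boundary]⟩
  | @tail y z _ hyz ih =>
    obtain ⟨γ, hs, hb⟩ := ih
    obtain ⟨e, he, h⟩ := hyz
    rcases h with h | h
    · refine ⟨γ + Pi.single e 1, fun e' he' => ?_, fun v => ?_⟩
      · have : e' ≠ e := fun hh => he' (hh ▸ he)
        simp [hs e' he', this]
      · rw [boundary_add, boundary_single, hb, h]; ring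
    · refine ⟨γ + Pi.single e (-1), fun e' he' => ?_, fun v => ?_⟩
      · have : e' ≠ e := fun hh => he' (hh ▸ he)
        simp [hs e' he', this]
      · rw [boundary_add, boundary_single, hb, h]; dsimp only; split_ifs <;> ring

theorem symmDiff_parity (A B : Finset E) (v : V) :
    (LabGraph.endCount ends ((A \ B) ∪ (B \ A)) v : ZMod 2) =
      LabGraph.endCount ends A v + LabGraph.endCount ends B v := by
  have : LabGraph.endCount ends A v + LabGraph.endCount ends B v =
      LabGraph.endCount ends ((A \ B) ∪ (B \ A)) v + 2 * LabGraph.endCount ends (A ∩ B) v := by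
    simp only [LabGraph.endCount]
    rw [Finset.sum_union (disjoint_sdiff_sdiff), ← Finset.sum_inter_add_sum_sdiff A B,
      ← Finset.sum_inter_add_sum_sdiff B A, Finset.inter_comm B A]
    ring
  have h := congrArg (Nat.cast : ℕ → ZMod 2) this
  push_cast at h
  rw [h, show (2 : ZMod 2) = 0 from rfl, zero_mul, add_zero]

/-- A walk gives an edge set with odd degree exactly at its ends. -/
theorem exists_path_set {T : Finset E} {a b : V} (h : Reach ends T a b) :
    ∃ D ⊆ T, ∀ v, (LabGraph.endCount ends D v : ZMod 2) =
      (if a = v then 1 else 0) + (if b = v then 1 else 0) := by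
  induction h with
  | refl =>
    refine ⟨∅, Finset.empty_subset T, fun v => ?_⟩
    simp only [LabGraph.endCount, Finset.sum_empty, Nat.cast_zero]
    split_ifs <;> rfl
  | @tail y z _ hyz ih =>
    obtain ⟨D, hD, hpar⟩ := ih
    obtain ⟨e, he, h⟩ := hyz
    refine ⟨(D \ {e}) ∪ ({e} \ D), Finset.union_subset (Finset.sdiff_subset.trans hD)
      (Finset.sdiff_subset.trans (Finset.singleton_subset_iff.mpr he)), fun v => ?_⟩
    rw [symmDiff_parity, hpar]
    simp only [LabGraph.endCount, Finset.sum_singleton]
    rcases h with h | h <;> rw [h] <;> dsimp only <;> push_cast <;> split_ifs <;> rfl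

theorem exists_circuit_mem : ∀ (D : Finset E), (∀ v : V, Even (LabGraph.endCount ends D v)) →
    ∀ e ∈ D, ∃ C ⊆ D, e ∈ C ∧ LabGraph.IsCircuit ends C := by
  intro D
  induction D using Finset.strongInduction with
  | H D ih =>
    intro hev e he
    obtain ⟨C, hC, hcirc⟩ := exists_circuit_of_even D ⟨e, he⟩ hev
    by_cases heC : e ∈ C
    · exact ⟨C, hC, heC, hcirc⟩
    · have hev' : ∀ v, Even (LabGraph.endCount ends (D \ C) v) := by
        intro v
        have h1 : LabGraph.endCount ends (D \ C) v + LabGraph.endCount ends C v =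
            LabGraph.endCount ends D v := Finset.sum_sdiff hC
        exact (Nat.even_add.mp (h1 ▸ hev v)).mpr (hcirc.2.1 v)
      have hlt : D \ C ⊂ D := Finset.sdiff_ssubset hC hcirc.1
      obtain ⟨C', hC', h'⟩ := ih _ hlt hev' e (Finset.mem_sdiff.mpr ⟨he, heC⟩)
      exact ⟨C', hC'.trans Finset.sdiff_subset, h'⟩

/-- An edge whose ends are joined by the rest of `T` lies on a circuit in `T`. -/
theorem exists_circuit_of_reach {T : Finset E} {e : E} (he : e ∈ T)
    (h : Reach ends (T.erase e) (ends e).1 (ends e).2) :
    ∃ C ⊆ T, e ∈ C ∧ LabGraph.IsCircuit ends C := by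
  obtain ⟨D, hD, hpar⟩ := exists_path_set h
  have heD : e ∉ D := fun hh => Finset.notMem_erase e T (hD hh)
  have hsub : insert e D ⊆ T := Finset.insert_subset_iff.mpr ⟨he, hD.trans (Finset.erase_subset e T)⟩
  obtain ⟨C, hC, heC, hcirc⟩ := exists_circuit_mem (ends := ends) (insert e D) (fun v => by
    rw [← ZMod.natCast_eq_zero_iff_even,
      LabGraph.endCount, Finset.sum_insert heD, Nat.cast_add]
    have := hpar v
    rw [LabGraph.endCount] at this
    rw [this]
    push_cast
    split_ifs <;> rfl) e (Finset.mem_insert_self e D)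
  exact ⟨C, hC.trans hsub, heC, hcirc⟩

/-- A cycle vector through an edge of a circuit, supported in it. -/
theorem exists_cycle_vec {C : Finset E} (hev : ∀ v : V, Even (LabGraph.endCount ends C v)) {e : E}
    (he : e ∈ C) : ∃ c : E → ℤ, c e = 1 ∧ (∀ e', e' ∉ C → c e' = 0) ∧
      ∀ v, LabGraph.boundary ends c v = 0 := by
  obtain ⟨γ, hs, hb⟩ := exists_path_vec (reach_symm (reach_erase_of_even hev he))
  refine ⟨γ + Pi.single e 1, ?_, fun e' he' => ?_, fun v => ?_⟩
  · simp [hs e (Finset.notMem_erase e C)]
  · have : e' ≠ e := fun h => he' (h ▸ he)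
    simp [hs e' (fun h => he' (Finset.mem_of_mem_erase h)), this]
  · rw [boundary_add, boundary_single, hb]; ring

theorem reach_univ (hconn : LabGraph.Connected ends) (a b : V) : Reach ends univ a b :=
  by
    induction hconn.2 a b with
    | refl => exact .refl
    | tail _ hyz ih =>
      obtain ⟨e, h⟩ := hyz
      exact ih.tail ⟨e, Finset.mem_univ e, h⟩

/-- An edge function orthogonal to all cycles is a coboundary. -/
theorem exists_potential (hconn : LabGraph.Connected ends) (z : E → ℤ)
    (hz : ∀ γ : E → ℤ, (∀ v, LabGraph.boundary ends γ v = 0) → ∑ e, γ e * z e = 0) :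
    ∃ φ : V → ℤ, ∀ e, φ (ends e).2 - φ (ends e).1 = z e := by
  obtain ⟨v₀⟩ := hconn.1
  choose P _ hP using fun v => exists_path_vec (reach_univ hconn v₀ v)
  refine ⟨fun v => ∑ e, P v e * z e, fun e => ?_⟩
  have h := hz (P (ends e).1 + Pi.single e 1 + (-1 : ℤ) • P (ends e).2) (fun v => by
    rw [boundary_add, boundary_add, boundary_smul, boundary_single, hP, hP]; ring)
  simp only [Pi.add_apply, Pi.smul_apply, smul_eq_mul, add_mul, Finset.sum_add_distrib, neg_mul,
    one_mul, Finset.sum_neg_distrib] at h
  have h1 : ∑ x, (Pi.single e (1 : ℤ) : E → ℤ) x * z x = z e := by simp [Pi.single_apply]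
  rw [h1] at h
  dsimp only
  linarith

/-- Restricting a cycle to an edge set containing or missing every circuit gives a cycle. -/
theorem cycle_restrict (P : E → Prop) [DecidablePred P]
    (hP : ∀ C : Finset E, LabGraph.IsCircuit ends C → (∀ e ∈ C, P e) ∨ ∀ e ∈ C, ¬ P e) :
    ∀ (S : Finset E) (γ : E → ℤ), (∀ e, e ∉ S → γ e = 0) → (∀ v, LabGraph.boundary ends γ v = 0) →
      ∀ v, LabGraph.boundary ends (fun e => if P e then γ e else 0) v = 0 := by
  intro S
  induction S using Finset.strongInduction with
  | H S ih =>
    intro γ hS hγ v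
    by_cases hall : ∀ e ∈ S, γ e = 0
    · have : (fun e => if P e then γ e else 0) = 0 := funext fun e => by
        by_cases he : e ∈ S
        · simp [hall e he]
        · simp [hS e he]
      rw [this]; simp [LabGraph.boundary]
    · push Not at hall
      obtain ⟨e₀, he₀S, he₀⟩ := hall
      let T := S.filter fun e => γ e ≠ 0
      have he₀T : e₀ ∈ T := Finset.mem_filter.mpr ⟨he₀S, he₀⟩
      have hreach : Reach ends (T.erase e₀) (ends e₀).1 (ends e₀).2 := by
        classical
        by_contra hn
        let s := (univ : Finset V).filter fun v => Reach ends (T.erase e₀) (ends e₀).1 v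
        have hmem : ∀ v, v ∈ s ↔ Reach ends (T.erase e₀) (ends e₀).1 v := fun v => by simp [s]
        have h0 := sum_mul_boundary (ends := ends) (fun v => if v ∈ s then 1 else 0) γ
        simp only [hγ, mul_zero, Finset.sum_const_zero] at h0
        rw [Finset.sum_eq_single e₀] at h0
        · rw [if_neg (fun h => hn ((hmem _).mp h)), if_pos ((hmem _).mpr .refl)] at h0
          simp at h0
          exact he₀ h0
        · intro e _ hne
          by_cases he : γ e = 0
          · simp [he]
          · have heT : e ∈ T.erase e₀ := Finset.mem_erase.mpr ⟨hne, Finset.mem_filter.mpr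
              ⟨by_contra fun h => he (hS e h), he⟩⟩
            have : (ends e).1 ∈ s ↔ (ends e).2 ∈ s := by
              rw [hmem, hmem]
              exact ⟨fun h => h.tail ⟨e, heT, Or.inl rfl⟩, fun h => h.tail ⟨e, heT, Or.inr rfl⟩⟩
            by_cases h : (ends e).1 ∈ s
            · rw [if_pos h, if_pos (this.mp h)]; ring
            · rw [if_neg h, if_neg (mt this.mpr h)]; ring
        · simp
      obtain ⟨C, hCT, heC, hcirc⟩ := exists_circuit_of_reach he₀T hreach
      obtain ⟨c, hc1, hcC, hc0⟩ := exists_cycle_vec hcirc.2.1 heC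
      have hlt : S.erase e₀ ⊂ S := Finset.erase_ssubset he₀S
      have hrec := ih _ hlt (γ + (-γ e₀) • c) (fun e he => by
        by_cases h : e = e₀
        · subst h; simp [hc1]
        · have : e ∉ S := fun hh => he (Finset.mem_erase.mpr ⟨h, hh⟩)
          have hC : e ∉ C := fun hh => this (Finset.mem_of_mem_filter e (hCT hh))
          simp [hS e this, hcC e hC]) (fun w => by rw [boundary_add, boundary_smul, hγ, hc0]; ring) v
      have hcP : ∀ w, LabGraph.boundary ends (fun e => if P e then c e else 0) w = 0 := by
        intro w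
        rcases hP C hcirc with h | h
        · rw [show (fun e => if P e then c e else 0) = c from funext fun e => by
            by_cases he : e ∈ C
            · rw [if_pos (h e he)]
            · simp [hcC e he], hc0]
        · rw [show (fun e => if P e then c e else 0) = 0 from funext fun e => by
            by_cases he : e ∈ C
            · rw [if_neg (h e he)]; rfl
            · simp [hcC e he]]
          simp [LabGraph.boundary]
      have hsplit : (fun e => if P e then γ e else 0) =
          (fun e => if P e then (γ + (-γ e₀) • c) e else 0) + γ e₀ • fun e => if P e then c e else 0 := by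
        funext e
        simp only [Pi.add_apply, Pi.smul_apply, smul_eq_mul]
        split_ifs <;> ring
      rw [hsplit, boundary_add, boundary_smul, hrec, hcP]; ring

end Groth.Agent.LabGraph6
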