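import Groth.Agent.LabGraph6.MatrixTree
import Mathlib.LinearAlgebra.FreeModule.Finite.CardQuotient
import Mathlib.LinearAlgebra.Determinant
import Mathlib.Data.ZMod.QuotientGroup

/-!
# The order of the component group
-/

universe u

open Finset Matrix

namespace Groth.Agent.LabGraph6

variable {V E : Type u} [Fintype V] [Fintype E] [DecidableEq V] [DecidableEq E]
variable {ends : E → V × V} {β : V → ℤ}

theorem index_zmultiples_eq (a : ℤ) : (AddSubgroup.zmultiples a).index = a.natAbs := by
  rw [AddSubgroup.index_eq_card, Nat.card_congr (Int.quotientZMultiplesEquivZMod a).toEquiv,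
    Nat.card_zmod]

theorem index_range_mulVec (N : Matrix V V ℤ) (hN : Function.Injective (Matrix.mulVec N)) :
    (LinearMap.range (Matrix.mulVecLin N)).toAddSubgroup.index = N.det.natAbs := by
  have h := Submodule.natAbs_det_equiv (LinearMap.range (Matrix.mulVecLin N))
    (LinearEquiv.ofInjective (Matrix.mulVecLin N) hN)
  have hcomp : (LinearMap.range (Matrix.mulVecLin N)).subtype ∘ₗ AddMonoidHom.toIntLinearMap
      ((LinearEquiv.ofInjective (Matrix.mulVecLin N) hN : (V → ℤ) ≃ₗ[ℤ] _) :
        (V → ℤ) →+ LinearMap.range (Matrix.mulVecLin N)) = Matrix.toLin' N := by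
    apply LinearMap.ext
    intro y
    rfl
  rw [hcomp, LinearMap.det_toLin'] at h
  rw [AddSubgroup.index_eq_card]
  exact h.symm

theorem exists_sum_mul_eq_gcd (g : V → ℤ) : ∀ s : Finset V, ∃ c : V → ℤ, ∑ v ∈ s, c v * g v = s.gcd g := by
  intro s
  induction s using Finset.induction with
  | empty => exact ⟨0, by simp⟩
  | @insert a s ha ih =>
    obtain ⟨c, hc⟩ := ih
    have hbez := Int.gcd_eq_gcd_ab (g a) (s.gcd g)
    refine ⟨fun v => if v = a then Int.gcdA (g a) (s.gcd g) else Int.gcdB (g a) (s.gcd g) * c v, ?_⟩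
    simp only [Finset.sum_insert ha, if_true, Finset.gcd_insert]
    have : ∑ v ∈ s, (if v = a then Int.gcdA (g a) (s.gcd g) else Int.gcdB (g a) (s.gcd g) * c v) * g v =
        Int.gcdB (g a) (s.gcd g) * s.gcd g := by
      calc _ = ∑ v ∈ s, Int.gcdB (g a) (s.gcd g) * (c v * g v) :=
            Finset.sum_congr rfl fun v hv => by rw [if_neg (fun h : v = a => ha (h ▸ hv)), mul_assoc]
        _ = _ := by rw [← Finset.mul_sum, hc]
    rw [this, ← Int.coe_gcd, hbez]; ring

/-- Bordering the matrix at `v`. -/
def border (ends : E → V × V) (β : V → ℤ) (v : V) : Matrix V V ℤ :=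
  LabGraph.mfMatrix ends β + Matrix.single v v 1

theorem border_mulVec (v : V) (y : V → ℤ) :
    Matrix.mulVec (border ends β v) y =
      Matrix.mulVec (LabGraph.mfMatrix ends β) y + y v • Pi.single v (1 : ℤ) := by
  rw [border, Matrix.add_mulVec]
  congr 1
  funext x
  simp [Matrix.mulVec, dotProduct, Matrix.single_apply, Pi.single_apply]
  rcases eq_or_ne x v with rfl | h <;> simp [*, Ne.symm]

theorem card_compGrp_mul (hβ : LabGraph.IsMultFn ends β) (hG : LabGraph.Connected ends) (v : V) :
    (Nat.card (LabGraph.CompGrp ends β) : ℤ) * β v ^ 2 =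
      (univ.gcd β) ^ 2 * |(border ends β v).det| := by
  set α := LabGraph.mfMatrix ends β with hα
  set m : ℤ := univ.gcd β with hm
  have hm0 : m ≠ 0 := fun h => (beta_pos hβ v).ne' ((Finset.gcd_eq_zero_iff.mp h) v (Finset.mem_univ v))
  have hdvd : ∀ w, m ∣ β w := fun w => Finset.gcd_dvd (Finset.mem_univ w)
  choose b hb using hdvd
  obtain ⟨c, hc⟩ := exists_sum_mul_eq_gcd β univ
  have hc1 : ∑ w, c w * b w = 1 := by
    apply mul_left_cancel₀ hm0
    rw [Finset.mul_sum, mul_one]
    refine Eq.trans ?_ hc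
    exact Finset.sum_congr rfl fun w _ => by rw [hb w]; ring
  have hbpos : 0 < b v := by
    have h1 := beta_pos hβ v
    rw [hb v] at h1
    have hmpos : 0 < m := by
      rcases lt_or_gt_of_ne hm0 with h | h
      · have h3 : normalize m = m := Finset.normalize_gcd
        rw [← Int.abs_eq_normalize] at h3
        exact absurd (abs_nonneg m) (by rw [h3]; omega)
      · exact h
    exact pos_of_mul_pos_right h1 hmpos.le
  -- the form `y ↦ Σ b y`
  let B : (V → ℤ) →+ ℤ :=
    { toFun := fun y => ∑ w, b w * y w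
      map_zero' := by simp
      map_add' := fun y z => by simp [mul_add, Finset.sum_add_distrib] }
  have hBsingle : B (Pi.single v 1) = b v := by
    simp [B, Pi.single_apply]
  have hBimg : ∀ y, B (Matrix.mulVec α y) = 0 := by
    intro y
    apply mul_left_cancel₀ hm0
    rw [mul_zero, ← sum_beta_mulVec hβ y]
    simp [B, Finset.mul_sum, hb, hα, mul_assoc]
  have hker : ∀ y, Matrix.mulVec α y = 0 → ∃ k : ℤ, y = k • b := by
    intro y hy
    refine ⟨∑ w, c w * y w, funext fun u => ?_⟩
    rw [Pi.smul_apply, smul_eq_mul, Finset.sum_mul]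
    have h1 : ∀ w, b w * y u = b u * y w := fun w => by
      have := mul_eq_mul_of_mulVec_eq_zero hβ hG hy u w
      rw [hb w, hb u] at this
      exact mul_left_cancel₀ hm0 (by linear_combination this)
    calc y u = (∑ w, c w * b w) * y u := by rw [hc1, one_mul]
      _ = ∑ w, c w * y w * b u := by
        rw [Finset.sum_mul]
        exact Finset.sum_congr rfl fun w _ => by linear_combination c w * h1 w
  have hinj : Function.Injective (Matrix.mulVec (border ends β v)) := by
    intro y z hyz
    have h0 : Matrix.mulVec (border ends β v) (y - z) = 0 := by rw [Matrix.mulVec_sub, hyz, sub_self]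
    rw [border_mulVec] at h0
    have h2 := congrArg B h0
    rw [map_add, hBimg, map_zero, zero_add, map_zsmul, hBsingle, smul_eq_mul] at h2
    have hv0 : (y - z) v = 0 := (mul_eq_zero.mp h2).resolve_right hbpos.ne'
    rw [hv0, zero_smul, add_zero] at h0
    obtain ⟨k, hk⟩ := hker _ h0
    rw [hk, Pi.smul_apply, smul_eq_mul] at hv0
    rw [(mul_eq_zero.mp hv0).resolve_right hbpos.ne', zero_smul] at hk
    exact sub_eq_zero.mp hk
  -- the subgroups
  let A : AddSubgroup (V → ℤ) := (LinearMap.range (Matrix.mulVecLin α)).toAddSubgroup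
  let N : AddSubgroup (V → ℤ) := (LinearMap.range (Matrix.mulVecLin (border ends β v))).toAddSubgroup
  let K : AddSubgroup (V → ℤ) := B.ker
  let δ : ℤ →+ (V → ℤ) := zmultiplesHom (V → ℤ) (Pi.single v (1 : ℤ))
  have hδ : ∀ t, δ t = t • Pi.single v (1 : ℤ) := fun t => rfl
  have hAK : A ≤ K := by
    rintro x ⟨y, rfl⟩
    exact hBimg y
  set J := A ⊔ δ.range with hJ
  -- first index
  have hcomapN : N.comap δ = AddSubgroup.zmultiples (b v) := by
    ext t
    rw [AddSubgroup.mem_comap, AddSubgroup.mem_zmultiples_iff]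
    constructor
    · rintro ⟨y, hy⟩
      have hy' : Matrix.mulVec (border ends β v) y = δ t := hy
      rw [border_mulVec, hδ] at hy'
      have h1 : Matrix.mulVec α y = (t - y v) • Pi.single v (1 : ℤ) := by
        rw [sub_smul, ← hy', add_sub_cancel_right]
      have h2 := congrArg B h1
      rw [hBimg, map_zsmul, hBsingle, smul_eq_mul] at h2
      have h3 : t - y v = 0 := (mul_eq_zero.mp h2.symm).resolve_right hbpos.ne'
      rw [h3, zero_smul] at h1
      obtain ⟨k, hk⟩ := hker y h1
      exact ⟨k, by have := congrFun hk v; simp only [Pi.smul_apply, smul_eq_mul] at this ⊢; linarith⟩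
    · rintro ⟨k, rfl⟩
      refine ⟨k • b, ?_⟩
      show Matrix.mulVec (border ends β v) (k • b) = _
      have hαb : Matrix.mulVec α b = 0 := by
        have h1 : β = m • b := funext fun w => by rw [hb w]; simp
        have h2 : Matrix.mulVec α β = 0 := mulVec_beta hβ
        rw [h1, Matrix.mulVec_smul] at h2
        exact (smul_eq_zero.mp h2).resolve_left hm0
      rw [border_mulVec, Matrix.mulVec_smul, hαb, smul_zero, zero_add, hδ]
      simp
  have hsupN : N ⊔ δ.range = J := by
    apply le_antisymm
    · refine sup_le ?_ le_sup_right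
      rintro x ⟨y, rfl⟩
      show Matrix.mulVec (border ends β v) y ∈ J
      rw [border_mulVec]
      exact AddSubgroup.mem_sup.mpr ⟨_, ⟨y, rfl⟩, _, ⟨y v, rfl⟩, rfl⟩
    · refine sup_le ?_ le_sup_right
      rintro x ⟨y, rfl⟩
      refine AddSubgroup.mem_sup.mpr ⟨_, ⟨y, rfl⟩, δ (-(y v)), ⟨_, rfl⟩, ?_⟩
      show Matrix.mulVec (border ends β v) y + δ (-(y v)) = Matrix.mulVec α y
      rw [border_mulVec, hδ, neg_smul, add_neg_cancel_right]
  have i1 : N.relIndex J = (b v).natAbs := by
    rw [← hsupN, sup_comm, AddSubgroup.relIndex_sup_right, ← AddSubgroup.index_comap, hcomapN,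
      index_zmultiples_eq]
  -- second index
  have hsupJ : K ⊔ δ.range = K ⊔ J := by
    rw [hJ, ← sup_assoc, sup_eq_left.mpr hAK]
  have hJK : J ⊓ K = A := by
    apply le_antisymm
    · rintro x ⟨hxJ, hxK⟩
      obtain ⟨a, ha, _, ⟨t, rfl⟩, rfl⟩ := AddSubgroup.mem_sup.mp hxJ
      have h1 : B (a + δ t) = 0 := hxK
      rw [map_add, show B a = 0 from hAK ha, zero_add, hδ, map_zsmul, hBsingle, smul_eq_mul] at h1
      rw [(mul_eq_zero.mp h1).resolve_right hbpos.ne', map_zero, add_zero]
      exact ha
    · exact le_inf le_sup_left hAK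
  have i2 : J.relIndex (K ⊔ J) = Nat.card (LabGraph.CompGrp ends β) := by
    have hK : K = (LinearMap.ker (LabGraph.betaHom β)).toAddSubgroup := by
      ext x
      show B x = 0 ↔ LabGraph.betaHom β x = 0
      have h1 : LabGraph.betaHom β x = m * B x := by
        rw [betaHom_apply]; simp [B, Finset.mul_sum, hb, mul_assoc]
      rw [h1, mul_eq_zero, or_iff_right hm0]
    rw [AddSubgroup.relIndex_sup_right, ← AddSubgroup.inf_relIndex_right, hJK, hK,
      AddSubgroup.relIndex, AddSubgroup.index_eq_card]
    rfl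
  -- third index
  have i3 : (K ⊔ J).index = (b v).natAbs := by
    have hKJ : K ⊔ J = (AddSubgroup.zmultiples (b v)).comap B := by
      rw [← hsupJ]
      apply le_antisymm
      · refine sup_le (fun x hx => ?_) ?_
        · rw [AddSubgroup.mem_comap, show B x = 0 from hx]; exact zero_mem _
        · rintro _ ⟨t, rfl⟩
          rw [AddSubgroup.mem_comap, hδ, map_zsmul, hBsingle]
          exact ⟨t, rfl⟩
      · intro x hx
        obtain ⟨t, ht⟩ := hx
        refine AddSubgroup.mem_sup.mpr ⟨x - δ t, ?_, δ t, ⟨t, rfl⟩, sub_add_cancel _ _⟩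
        show B (x - δ t) = 0
        rw [map_sub, hδ, map_zsmul, hBsingle, ← ht]
        simp
    have hsurj : Function.Surjective B := fun t => ⟨t • c, by
      show ∑ w, b w * (t • c) w = t
      calc ∑ w, b w * (t • c) w = t * ∑ w, c w * b w := by
            rw [Finset.mul_sum]; exact Finset.sum_congr rfl fun w _ => by simp; ring
        _ = t := by rw [hc1, mul_one]⟩
    rw [hKJ, AddSubgroup.index_comap_of_surjective _ hsurj, index_zmultiples_eq]
  have hNJ : N ≤ J := hsupN ▸ le_sup_left
  have htot : (b v).natAbs * Nat.card (LabGraph.CompGrp ends β) * (b v).natAbs =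
      (border ends β v).det.natAbs := by
    rw [← index_range_mulVec _ hinj, ← AddSubgroup.relIndex_mul_index (hNJ.trans le_sup_right),
      ← AddSubgroup.relIndex_mul_relIndex N J (K ⊔ J) hNJ le_sup_right, i1, i2, i3]
  have htot' : |b v| * (Nat.card (LabGraph.CompGrp ends β) : ℤ) * |b v| = |(border ends β v).det| := by
    rw [Int.abs_eq_natAbs, Int.abs_eq_natAbs]; exact_mod_cast htot
  rw [← htot', hb v, abs_of_pos hbpos]
  ring

theorem lap_apply (w : E → ℤ) (hw : ∀ e, w e = β (ends e).1 * β (ends e).2)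
    (hβ : LabGraph.IsMultFn ends β) (x y : V) :
    lap ends w univ ∅ x y = -(β x * LabGraph.mfMatrix ends β x y * β y) := by
  simp only [lap, Finset.notMem_empty, if_false]
  rcases eq_or_ne x y with rfl | hxy
  · rw [self_mul_beta hβ |> fun h => (show β x * LabGraph.mfMatrix ends β x x * β x =
      β x * (LabGraph.mfMatrix ends β x x * β x) by ring).trans (by rw [h]), neg_mul_eq_mul_neg, neg_neg,
      nb, Finset.mul_sum]
    refine Finset.sum_congr rfl fun e _ => ?_
    simp only [inc, eterm, hw]
    by_cases h1 : (ends e).1 = x <;> by_cases h2 : (ends e).2 = x <;> simp [h1, h2] <;> ring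
  · rw [mfMatrix_of_ne ends β hxy, LabGraph.edgeMult, Finset.card_filter, Nat.cast_sum,
      Finset.mul_sum, Finset.sum_mul, ← Finset.sum_neg_distrib]
    refine Finset.sum_congr rfl fun e _ => ?_
    rcases he : ends e with ⟨p, q⟩
    simp only [inc, hw, he, Prod.mk.injEq]
    by_cases h1 : p = x <;> by_cases h2 : q = x <;> by_cases h3 : p = y <;> by_cases h4 : q = y <;>
      simp [h1, h2, h3, h4, hxy, hxy.symm] <;> subst_vars <;> simp_all <;> ring

open Classical in
theorem det_border_mul (hβ : LabGraph.IsMultFn ends β) (v : V) :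
    |(border ends β v).det| * (∏ x, β x) ^ 2 = β v ^ 2 *
      ∑ T ∈ univ.powerset.filter (fun T : Finset E => LabGraph.IsSpanningTree ends T),
        ∏ x, β x ^ LabGraph.nbrCount ends T x := by
  set w : E → ℤ := fun e => β (ends e).1 * β (ends e).2 with hw
  haveI : Nonempty V := ⟨v⟩
  set S : ℤ := ∑ T ∈ univ.powerset.filter (fun T : Finset E => LabGraph.IsSpanningTree ends T),
        ∏ x, β x ^ LabGraph.nbrCount ends T x with hS
  have hdet1 : (lap ends w univ ∅).det = 0 := by
    rw [det_lap]
    exact Finset.sum_eq_zero fun T hT => absurd (Finset.mem_filter.mp hT).2 (not_rootedForest_empty T)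
  have hdet2 : (lap ends w univ {v}).det = S := by
    rw [det_lap, hS]
    refine Finset.sum_congr ?_ fun T hT => ?_
    · exact Finset.filter_congr fun T _ => rootedForest_singleton_iff v
    · have hf := (isSpanningTree_iff.mp (Finset.mem_filter.mp hT).2).2
      simp only [hw, prod_edge_eq_prod_endCount, nbrCount_eq_endCount hf]
  have hv : lap ends w univ {v} = (lap ends w univ ∅).updateRow v (Pi.single v 1) := by
    funext x y
    rcases eq_or_ne x v with rfl | hne
    · rw [Matrix.updateRow_self]; simp [lap, Pi.single_apply, eq_comm]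
    · rw [Matrix.updateRow_ne hne]; simp [lap, hne]
  have hscaled : Matrix.diagonal β * border ends β v * Matrix.diagonal β =
      -((lap ends w univ ∅).updateRow v
        (lap ends w univ ∅ v + (-(β v ^ 2)) • Pi.single v (1 : ℤ))) := by
    funext x y
    rw [Matrix.mul_diagonal, Matrix.diagonal_mul, border, Matrix.add_apply, Matrix.neg_apply]
    rcases eq_or_ne x v with rfl | hne
    · rw [Matrix.updateRow_self, Pi.add_apply, Pi.smul_apply, smul_eq_mul, lap_apply w (fun e => rfl) hβ]
      rcases eq_or_ne y x with rfl | hy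
      · simp [Matrix.single_apply]; ring
      · simp [Matrix.single_apply, hy, hy.symm]
    · rw [Matrix.updateRow_ne hne, lap_apply w (fun e => rfl) hβ]
      simp [Matrix.single_apply, hne.symm]
  have h1 := congrArg Matrix.det hscaled
  rw [Matrix.det_mul, Matrix.det_mul, Matrix.det_diagonal, Matrix.det_neg, Matrix.det_updateRow_add,
    Matrix.updateRow_eq_self, hdet1, Matrix.det_updateRow_smul, ← hv, hdet2, zero_add] at h1
  have h2 := congrArg abs h1
  rw [abs_mul, abs_mul, abs_mul, abs_pow, abs_neg, abs_one, one_pow, one_mul, abs_mul, abs_neg,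
    abs_pow, sq_abs] at h2
  have hp : |∏ x, β x| = ∏ x, β x := abs_of_pos (Finset.prod_pos fun x _ => beta_pos hβ x)
  have hS0 : |S| = S := abs_of_nonneg (Finset.sum_nonneg fun T _ =>
    Finset.prod_nonneg fun x _ => pow_nonneg (beta_pos hβ x).le _)
  rw [hp, hS0] at h2
  linear_combination h2

open Classical in
theorem card_compGrp (hβ : LabGraph.IsMultFn ends β) (hG : LabGraph.Connected ends) :
    (Nat.card (LabGraph.CompGrp ends β) : ℚ) =
      ((univ.gcd β : ℤ) : ℚ) ^ 2 *
        ∑ T ∈ univ.powerset.filter (fun T : Finset E => LabGraph.IsSpanningTree ends T),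
          ∏ v : V, ((β v : ℚ) ^ ((LabGraph.nbrCount ends T v : ℤ) - 2)) := by
  obtain ⟨v⟩ := hG.1
  have h1 := card_compGrp_mul hβ hG v
  have h2 := det_border_mul hβ v
  have h3 : (Nat.card (LabGraph.CompGrp ends β) : ℤ) * (∏ x, β x) ^ 2 = (univ.gcd β) ^ 2 *
      ∑ T ∈ univ.powerset.filter (fun T : Finset E => LabGraph.IsSpanningTree ends T),
        ∏ x, β x ^ LabGraph.nbrCount ends T x := by
    apply mul_left_cancel₀ (pow_ne_zero 2 (beta_pos hβ v).ne')
    linear_combination (∏ x, β x) ^ 2 * h1 + (univ.gcd β) ^ 2 * h2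
  have hne : ∀ x, (β x : ℚ) ≠ 0 := fun x => by exact_mod_cast (beta_pos hβ x).ne'
  have hP : (∏ x, (β x : ℚ)) ^ 2 ≠ 0 := pow_ne_zero 2 (Finset.prod_ne_zero_iff.mpr fun x _ => hne x)
  apply mul_right_cancel₀ hP
  rw [mul_assoc, Finset.sum_mul]
  have h4 := congrArg (Int.cast : ℤ → ℚ) h3
  push_cast at h4
  rw [h4]
  congr 1
  refine Finset.sum_congr rfl fun T _ => ?_
  rw [← Finset.prod_pow, ← Finset.prod_mul_distrib]
  refine Finset.prod_congr rfl fun x _ => ?_
  rw [← zpow_natCast (β x : ℚ) 2, ← zpow_add₀ (hne x), ← zpow_natCast]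
  congr 1
  simp

end Groth.Agent.LabGraph6
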