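import Groth.Agent.LabGraph6.Circuit

/-!
# The weighted matrix-tree theorem, rooted-forest form
-/

universe u

open Finset Matrix

namespace Groth.Agent.LabGraph6

variable {V E : Type u} [Fintype V] [Fintype E] [DecidableEq V] [DecidableEq E]
variable {ends : E → V × V}

/-- Every vertex reaches `R` through `T`, with the smallest possible number of edges. -/
def RootedForest (ends : E → V × V) (R : Finset V) (T : Finset E) : Prop :=
  (∀ x, ∃ r ∈ R, Reach ends T x r) ∧ T.card + R.card = Fintype.card V

theorem reachR_erase {T : Finset E} {R : Finset V} {e : E} (he : e ∈ T) {a b : V}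
    (hab : ends e = (a, b) ∨ ends e = (b, a)) (ha : a ∈ R) :
    (∀ x, ∃ r ∈ R, Reach ends T x r) ↔ ∀ x, ∃ r ∈ insert b R, Reach ends (T.erase e) x r := by
  constructor
  · intro h x
    obtain ⟨r, hr, hxr⟩ := h x
    induction hxr using Relation.ReflTransGen.head_induction_on with
    | refl => exact ⟨r, Finset.mem_insert_of_mem hr, .refl⟩
    | @head y z hyz _ ih =>
      obtain ⟨e', he', hyz⟩ := hyz
      rcases eq_or_ne e' e with rfl | hne
      · refine ⟨y, ?_, .refl⟩
        rcases hab with h1 | h1 <;> rcases hyz with h2 | h2 <;> rw [h1, Prod.mk.injEq] at h2 <;>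
          obtain ⟨rfl, rfl⟩ := h2 <;> simp [ha]
      · obtain ⟨r', hr', hzr⟩ := ih
        exact ⟨r', hr', Relation.ReflTransGen.head ⟨e', Finset.mem_erase.mpr ⟨hne, he'⟩, hyz⟩ hzr⟩
  · intro h x
    obtain ⟨r, hr, hxr⟩ := h x
    rcases Finset.mem_insert.mp hr with rfl | hr
    · exact ⟨a, ha, (reach_mono (Finset.erase_subset e T) hxr).tail ⟨e, he, hab.symm⟩⟩
    · exact ⟨r, hr, reach_mono (Finset.erase_subset e T) hxr⟩

theorem exists_crossing {T : Finset E} {R : Finset V} (h : ∀ x, ∃ r ∈ R, Reach ends T x r)
    (hR : R ≠ univ) : ∃ e ∈ T, ∃ a ∈ R, ∃ b, b ∉ R ∧ (ends e = (a, b) ∨ ends e = (b, a)) := by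
  obtain ⟨x, hx⟩ : ∃ x, x ∉ R := by
    by_contra hc
    push Not at hc
    exact hR (Finset.eq_univ_iff_forall.mpr hc)
  obtain ⟨r, hr, hxr⟩ := h x
  induction hxr using Relation.ReflTransGen.head_induction_on with
  | refl => exact absurd hr hx
  | @head y z hyz _ ih =>
    obtain ⟨e, he, hyz⟩ := hyz
    by_cases hz : z ∈ R
    · exact ⟨e, he, z, hz, y, hx, hyz.symm⟩
    · exact ih hz

theorem card_le_of_reach : ∀ (n : ℕ) (T : Finset E) (R : Finset V), T.card = n →
    (∀ x, ∃ r ∈ R, Reach ends T x r) → Fintype.card V ≤ T.card + R.card := by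
  intro n
  induction n with
  | zero =>
    intro T R hT h
    by_cases hR : R = univ
    · subst hR; simp
    · obtain ⟨e, he, -⟩ := exists_crossing h hR
      rw [Finset.card_eq_zero.mp hT] at he
      simp at he
  | succ n ih =>
    intro T R hT h
    by_cases hR : R = univ
    · subst hR; simp
    · obtain ⟨e, he, a, ha, b, hb, hab⟩ := exists_crossing h hR
      have := ih (T.erase e) (insert b R) (by rw [Finset.card_erase_of_mem he, hT]; rfl)
        ((reachR_erase he hab ha).mp h)
      rw [Finset.card_erase_of_mem he, Finset.card_insert_of_notMem hb, hT] at this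
      omega

theorem rootedForest_insert_iff {T : Finset E} {R : Finset V} {e : E} (he : e ∉ T) {a b : V}
    (hab : ends e = (a, b) ∨ ends e = (b, a)) (ha : a ∈ R) (hb : b ∉ R) :
    RootedForest ends R (insert e T) ↔ RootedForest ends (insert b R) T := by
  unfold RootedForest
  rw [reachR_erase (Finset.mem_insert_self e T) hab ha, Finset.erase_insert he,
    Finset.card_insert_of_notMem he, Finset.card_insert_of_notMem hb]
  constructor <;> rintro ⟨h1, h2⟩ <;> exact ⟨h1, by omega⟩

theorem not_rootedForest_of_both {T : Finset E} {R : Finset V} {e : E} (he : e ∈ T)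
    (ha : (ends e).1 ∈ R) (hb : (ends e).2 ∈ R) : ¬ RootedForest ends R T := by
  rintro ⟨h, hcard⟩
  have h' : ∀ x, ∃ r ∈ R, Reach ends (T.erase e) x r := fun x => by
    obtain ⟨r, hr, hxr⟩ :=
      (reachR_erase he (a := (ends e).1) (b := (ends e).2) (Or.inl rfl) ha).mp h x
    rw [Finset.insert_eq_of_mem hb] at hr
    exact ⟨r, hr, hxr⟩
  have := card_le_of_reach _ (T.erase e) R rfl h'
  rw [Finset.card_erase_of_mem he] at this
  have := Finset.card_pos.mpr ⟨e, he⟩
  omega

/-- Incidence sign. -/
def inc (ends : E → V × V) (e : E) (x : V) : ℤ :=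
  (if (ends e).1 = x then 1 else 0) - (if (ends e).2 = x then 1 else 0)

/-- The Laplacian of `S` with weights, with the rows in `R` replaced by those of the identity. -/
def lap (ends : E → V × V) (w : E → ℤ) (S : Finset E) (R : Finset V) : Matrix V V ℤ := fun x y =>
  if x ∈ R then (if x = y then 1 else 0) else ∑ e ∈ S, w e * inc ends e x * inc ends e y

open Classical in
theorem det_lap (w : E → ℤ) : ∀ (S : Finset E) (R : Finset V),
    (lap ends w S R).det =
      ∑ T ∈ S.powerset.filter (RootedForest ends R), ∏ e ∈ T, w e := by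
  intro S
  induction S using Finset.strongInduction with
  | H S ih =>
  intro R
  by_cases hex : ∃ e ∈ S, ∃ a ∈ R, ∃ b, b ∉ R ∧ (ends e = (a, b) ∨ ends e = (b, a))
  · obtain ⟨e, he, a, ha, b, hb, hab⟩ := hex
    have hne : a ≠ b := fun h => hb (h ▸ ha)
    have hinc : ∀ x, inc ends e b * inc ends e x =
        (if b = x then 1 else 0) - (if a = x then 1 else 0) := by
      intro x
      rcases hab with h | h <;> simp only [inc, h] <;> simp [hne, hne.symm]
    have hincx : ∀ x, x ≠ a → x ≠ b → inc ends e x = 0 := by
      intro x h1 h2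
      rcases hab with h | h <;> simp [inc, h, h1.symm, h2.symm]
    set M₀ := lap ends w (S.erase e) R with hM₀
    set u : V → ℤ := fun y => (if b = y then 1 else 0) - (if a = y then 1 else 0)
    have hM : lap ends w S R = M₀.updateRow b (M₀ b + w e • u) := by
      funext x y
      by_cases hxb : x = b
      · subst hxb
        rw [Matrix.updateRow_self, Pi.add_apply, Pi.smul_apply, smul_eq_mul]
        simp only [u]
        rw [← hinc y]
        simp only [hM₀, lap, if_neg hb]
        rw [← Finset.sum_erase_add _ _ he]
        ring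
      · rw [Matrix.updateRow_ne hxb]
        simp only [hM₀, lap]
        by_cases hxR : x ∈ R
        · rw [if_pos hxR, if_pos hxR]
        · rw [if_neg hxR, if_neg hxR, ← Finset.sum_erase_add _ _ he,
            hincx x (fun h => hxR (h ▸ ha)) hxb]
          simp
    have hrow : (M₀.updateRow b u).det = (lap ends w (S.erase e) (insert b R)).det := by
      have h1 : (M₀.updateRow b u).det =
          ((M₀.updateRow b u).updateRow b ((M₀.updateRow b u) b + (M₀.updateRow b u) a)).det :=
        (Matrix.det_updateRow_add_self _ (Ne.symm hne)).symm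
      rw [h1]
      congr 1
      funext x y
      by_cases hxb : x = b
      · subst hxb
        rw [Matrix.updateRow_self, Pi.add_apply, Matrix.updateRow_self, Matrix.updateRow_ne hne]
        simp only [hM₀, lap, if_pos ha, if_pos (Finset.mem_insert_self x R), u]
        ring
      · rw [Matrix.updateRow_ne hxb, Matrix.updateRow_ne hxb]
        simp only [hM₀, lap, Finset.mem_insert, hxb, false_or]
    rw [hM, Matrix.det_updateRow_add, Matrix.updateRow_eq_self, Matrix.det_updateRow_smul, hrow,
      ih _ (Finset.erase_ssubset he), ih _ (Finset.erase_ssubset he)]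
    conv_rhs => rw [Finset.sum_filter, ← Finset.insert_erase he,
      Finset.sum_powerset_insert (Finset.notMem_erase e S)]
    rw [Finset.sum_filter, Finset.sum_filter, Finset.mul_sum]
    congr 1
    refine Finset.sum_congr rfl fun T hT => ?_
    have heT : e ∉ T := fun h => Finset.notMem_erase e S (Finset.mem_powerset.mp hT h)
    rw [mul_ite, mul_zero, Finset.prod_insert heT]
    exact if_congr (rootedForest_insert_iff heT hab ha hb).symm rfl rfl
  · push Not at hex
    have hside : ∀ e ∈ S, ((ends e).1 ∈ R ↔ (ends e).2 ∈ R) := by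
      intro e he
      constructor <;> intro h <;> by_contra h'
      · exact (hex e he _ h _ h').1 rfl
      · exact (hex e he _ h _ h').2 rfl
    by_cases hR : R = univ
    · subst hR
      have hlap : lap ends w S univ = 1 := by
        funext x y; simp [lap, Matrix.one_apply]
      rw [hlap, Matrix.det_one]
      have : S.powerset.filter (RootedForest ends (univ : Finset V)) = {∅} := by
        ext T
        simp only [Finset.mem_filter, Finset.mem_powerset, Finset.mem_singleton, RootedForest,
          Finset.card_univ]
        constructor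
        · rintro ⟨-, -, h⟩; exact Finset.card_eq_zero.mp (by omega)
        · rintro rfl; exact ⟨Finset.empty_subset S, fun x => ⟨x, Finset.mem_univ x, .refl⟩, by simp⟩
      rw [this, Finset.sum_singleton, Finset.prod_empty]
    · have hzero : (lap ends w S R).det = 0 := by
        rw [← Matrix.exists_mulVec_eq_zero_iff]
        obtain ⟨x₀, hx₀⟩ : ∃ x, x ∉ R := by
          by_contra hc
          push Not at hc
          exact hR (Finset.eq_univ_iff_forall.mpr hc)
        refine ⟨fun y => if y ∈ R then 0 else 1, fun h => by simpa [hx₀] using congrFun h x₀, ?_⟩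
        funext x
        simp only [Matrix.mulVec, dotProduct, lap, Pi.zero_apply]
        by_cases hx : x ∈ R
        · refine Finset.sum_eq_zero fun y _ => ?_
          rcases eq_or_ne x y with rfl | hxy <;> simp [*]
        · simp only [if_neg hx, Finset.sum_mul]
          rw [Finset.sum_comm]
          refine Finset.sum_eq_zero fun e he => ?_
          have : ∑ y, inc ends e y * (if y ∈ R then 0 else 1) = 0 := by
            simp only [inc, sub_mul, ite_mul, one_mul, zero_mul, Finset.sum_sub_distrib,
              Finset.sum_ite_eq, Finset.mem_univ, if_true]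
            by_cases h : (ends e).1 ∈ R
            · rw [if_pos h, if_pos ((hside e he).mp h), sub_self]
            · rw [if_neg h, if_neg (mt (hside e he).mpr h), sub_self]
          simp only [mul_assoc, ← Finset.mul_sum, this, mul_zero]
      rw [hzero, eq_comm]
      refine Finset.sum_eq_zero fun T hT => ?_
      obtain ⟨hTS, hrf⟩ := Finset.mem_filter.mp hT
      obtain ⟨e, he, a, ha, b, hb, hab⟩ := exists_crossing hrf.1 hR
      have := hex e (Finset.mem_powerset.mp hTS he) a ha b hb
      tauto

theorem rootedForest_singleton_iff {T : Finset E} (v : V) :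
    RootedForest ends {v} T ↔ LabGraph.IsSpanningTree ends T := by
  rw [isSpanningTree_iff]
  simp only [RootedForest, Finset.card_singleton, Finset.mem_singleton, exists_eq_left]
  constructor
  · rintro ⟨h, hcard⟩
    refine ⟨⟨⟨v⟩, fun x y => (h x).trans (reach_symm (h y))⟩, fun C hC hcirc => ?_⟩
    obtain ⟨e, he⟩ := hcirc.1
    have h' : ∀ x, ∃ r ∈ ({v} : Finset V), Reach ends (T.erase e) x r := fun x =>
      ⟨v, Finset.mem_singleton_self v, reach_erase_circuit hcirc.2.1 hC he (h x)⟩
    have := card_le_of_reach _ (T.erase e) {v} rfl h'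
    rw [Finset.card_erase_of_mem (hC he), Finset.card_singleton] at this
    have := Finset.card_pos.mpr ⟨e, hC he⟩
    omega
  · rintro ⟨⟨hne, h⟩, hfor⟩
    refine ⟨fun x => h x v, ?_⟩
    have h1 := card_le_of_reach _ T {v} rfl fun x => ⟨v, Finset.mem_singleton_self v, h x v⟩
    rw [Finset.card_singleton] at h1
    by_contra hne'
    obtain ⟨C, hC, hcirc⟩ := exists_circuit_of_card_le (ends := ends) T (by omega)
    exact hfor C hC hcirc

theorem not_rootedForest_empty [Nonempty V] (T : Finset E) : ¬ RootedForest ends (∅ : Finset V) T := by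
  rintro ⟨h, -⟩
  obtain ⟨r, hr, -⟩ := h (Classical.arbitrary V)
  simp at hr

theorem prod_edge_eq_prod_endCount (g : V → ℤ) (T : Finset E) :
    ∏ e ∈ T, g (ends e).1 * g (ends e).2 = ∏ v, g v ^ LabGraph.endCount ends T v := by
  simp only [LabGraph.endCount, ← Finset.prod_pow_eq_pow_sum]
  rw [Finset.prod_comm]
  refine Finset.prod_congr rfl fun e _ => ?_
  simp only [pow_add, Finset.prod_mul_distrib, pow_ite, pow_one, pow_zero, Finset.prod_ite_eq,
    Finset.mem_univ, if_true]

end Groth.Agent.LabGraph6
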